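import Cfsg.Agent.Lib.ClassSize.CoprimeTop
import Cfsg.Agent.Lib.SylowCount.Basic
import Cfsg.Agent.Lib.Components.Fitting
import Cfsg.Agent.Lib.Coprime.Action

/-!
# Class sizes `{1, m, mn}` with `(m, n) = 1`: basics

`pp p H` is the order of a Sylow `p`-subgroup of `H`; in such a group `pp p (cent g)` is the same
for all noncentral `g` when `p ∣ m`.
-/

namespace Cfsg.Agent.ClassSize.TwoSteps

open Subgroup Cfsg.Agent.ClassSize.CoprimeTop

variable {G : Type*} [Group G] [Finite G] {p q : ℕ}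

/-- `p`-elements. -/
def IsPEl (p : ℕ) (g : G) : Prop := ∃ k, g ^ p ^ k = 1

omit [Finite G] in
theorem isPEl_of_mem {W : Subgroup G} (hW : IsPGroup p W) {g : G} (hg : g ∈ W) : IsPEl p g := by
  obtain ⟨k, hk⟩ := hW ⟨g, hg⟩
  exact ⟨k, congrArg Subtype.val hk⟩

omit [Finite G] in
theorem IsPEl.isPGroup_zpowers {g : G} (hg : IsPEl p g) : IsPGroup p (zpowers g) := by
  obtain ⟨k, hk⟩ := hg
  rintro ⟨x, hx⟩
  obtain ⟨i, rfl⟩ := mem_zpowers_iff.1 hx
  refine ⟨k, Subtype.ext ?_⟩
  show (g ^ i) ^ p ^ k = 1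
  rw [← zpow_natCast, ← zpow_mul, mul_comm, zpow_mul, zpow_natCast, hk, one_zpow]

omit [Finite G] in
theorem IsPEl.of_mem_zpowers {g y : G} (hg : IsPEl p g) (hy : y ∈ zpowers g) : IsPEl p y :=
  isPEl_of_mem hg.isPGroup_zpowers hy

omit [Finite G] in
theorem IsPEl.orderOf_dvd {g : G} (hg : IsPEl p g) : ∃ k, orderOf g ∣ p ^ k :=
  hg.imp fun _ hk => orderOf_dvd_of_pow_eq_one hk

omit [Finite G] in
theorem IsPEl.coprime {g h : G} (hp : p.Prime) (hq : q.Prime) (hpq : p ≠ q) (hg : IsPEl p g)
    (hh : IsPEl q h) : (orderOf g).Coprime (orderOf h) := by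
  obtain ⟨i, hi⟩ := hg.orderOf_dvd
  obtain ⟨j, hj⟩ := hh.orderOf_dvd
  exact ((Nat.coprime_primes hp hq).2 hpq).pow i j |>.coprime_dvd_left hi |>.coprime_dvd_right hj

omit [Finite G] in
theorem IsPEl.coprime_of_dvd_card {g : G} {T : Subgroup G} (hp : p.Prime) (hg : IsPEl p g) {t : G}
    (ht : t ∈ T) (hT : ¬ p ∣ Nat.card T) : (orderOf g).Coprime (orderOf t) := by
  obtain ⟨i, hi⟩ := hg.orderOf_dvd
  exact (((hp.coprime_iff_not_dvd).2 hT).pow_left i).coprime_dvd_left hi |>.coprime_dvd_right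
    (orderOf_dvd_natCard T ht)

theorem isPEl_zpowers_of_sylow {g : G} {P : Sylow p (zpowers g)} {y : zpowers g}
    (hy : y ∈ (P : Subgroup (zpowers g))) : IsPEl p (y : G) := by
  obtain ⟨k, hk⟩ := P.isPGroup' ⟨y, hy⟩
  exact ⟨k, by simpa using congrArg (fun z : (P : Subgroup (zpowers g)) => ((z : zpowers g) : G)) hk⟩

/-- An element all of whose primary parts lie in `C` lies in `C`. -/
theorem mem_of_forall_primary {g : G} {C : Subgroup G}
    (h : ∀ p : ℕ, p.Prime → ∀ y ∈ zpowers g, IsPEl p y → y ∈ C) : g ∈ C := by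
  have := Components.eq_top_of_forall_sylow (X := C.subgroupOf (zpowers g)) fun p hp _ =>
    ⟨default, fun y hy => h p hp y y.2 (isPEl_zpowers_of_sylow hy)⟩
  exact subgroupOf_eq_top.1 this (mem_zpowers g)

/-! ### Orders of Sylow subgroups -/

/-- The order of a Sylow `p`-subgroup. -/
noncomputable def pp (p : ℕ) (H : Subgroup G) : ℕ := p ^ (Nat.card H).factorization p

theorem exists_pp_subgroup (p : ℕ) [Fact p.Prime] (H : Subgroup G) :
    ∃ W ≤ H, IsPGroup p W ∧ Nat.card W = pp p H := by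
  obtain ⟨P⟩ := (inferInstance : Nonempty (Sylow p H))
  exact ⟨(P : Subgroup H).map H.subtype, map_subtype_le _, P.isPGroup'.map _, by
    rw [card_map_of_injective H.subtype_injective, P.card_eq_multiplicity]; rfl⟩

theorem pp_dvd (p : ℕ) (H : Subgroup G) : pp p H ∣ Nat.card H := Nat.ordProj_dvd _ _

theorem card_le_pp [hp : Fact p.Prime] {W H : Subgroup G} (hWH : W ≤ H) (hW : IsPGroup p W) :
    Nat.card W ≤ pp p H := by
  obtain ⟨i, hi⟩ := IsPGroup.iff_card.1 hW
  rw [hi]
  exact Nat.pow_le_pow_right hp.out.pos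
    ((hp.out.pow_dvd_iff_le_factorization Nat.card_pos.ne').1 (hi ▸ card_dvd_of_le hWH))

theorem pp_mono [Fact p.Prime] {H K : Subgroup G} (h : H ≤ K) : pp p H ≤ pp p K := by
  obtain ⟨W, hW, hWp, hWc⟩ := exists_pp_subgroup p H
  exact hWc ▸ card_le_pp (hW.trans h) hWp

theorem factorization_index [hp : Fact p.Prime] (H : Subgroup G) :
    (Nat.card H).factorization p + H.index.factorization p = (Nat.card G).factorization p := by
  rw [← card_mul_index H, Nat.factorization_mul Nat.card_pos.ne' index_ne_zero_of_finite]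
  rfl

theorem pp_mul_cl [Fact p.Prime] (g : G) :
    pp p (cent g) * p ^ (cl g).factorization p = p ^ (Nat.card G).factorization p := by
  rw [pp, ← pow_add]
  exact congrArg (p ^ ·) (factorization_index (cent g))

theorem sylow_card [Fact p.Prime] (P : Sylow p G) :
    Nat.card (P : Subgroup G) = p ^ (Nat.card G).factorization p := P.card_eq_multiplicity

theorem card_inf_normal [Fact p.Prime] (P : Sylow p G) (C : Subgroup G) [C.Normal] :
    Nat.card ↥((P : Subgroup G) ⊓ C) = pp p C := by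
  obtain ⟨R, hR⟩ := SylowCount.exists_sylow_inf P C
  have h1 := R.card_eq_multiplicity
  rw [show (R : Subgroup C) = (P : Subgroup G).subgroupOf C from hR, ← inf_subgroupOf_right,
    Nat.card_congr (subgroupOfEquivOfLe (inf_le_right : (P : Subgroup G) ⊓ C ≤ C)).toEquiv] at h1
  exact h1

/-- A normal subgroup of `H` with the full `p`-part contains all `p`-elements of `H`. -/
theorem mem_of_normal [hp : Fact p.Prime] {C H : Subgroup G} [C.Normal] (hCH : C ≤ H)
    (hpp : pp p H ≤ pp p C) {g : G} (hg : IsPEl p g) (hgH : g ∈ H) : g ∈ C := by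
  obtain ⟨i, hi⟩ := hg.orderOf_dvd
  have h0 : ¬ p ∣ C.relIndex H := by
    intro h
    have h2 : Nat.card C * C.relIndex H = Nat.card H := by
      rw [relIndex, ← Nat.card_congr (subgroupOfEquivOfLe hCH).toEquiv, card_mul_index]
    have h3 : p * pp p C ∣ Nat.card H := h2 ▸ mul_comm p _ ▸ mul_dvd_mul (pp_dvd p C) h
    rw [pp, ← pow_succ'] at h3
    have h4 := (hp.out.pow_dvd_iff_le_factorization Nat.card_pos.ne').1 h3
    have h5 := (Nat.pow_le_pow_iff_right hp.out.one_lt).1 hpp
    omega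
  have hd : orderOf (g : G ⧸ C) ∣ C.relIndex H := by
    rw [show C.relIndex H = Nat.card (H.map (QuotientGroup.mk' C)) by
      rw [← relIndex_ker, QuotientGroup.ker_mk']]
    exact orderOf_dvd_natCard _ (mem_map_of_mem (QuotientGroup.mk' C) hgH)
  have h1 := Nat.eq_one_of_dvd_coprimes (((hp.out.coprime_iff_not_dvd).2 h0).pow_left i)
    ((orderOf_map_dvd (QuotientGroup.mk' C) g).trans hi) hd
  exact (QuotientGroup.eq_one_iff g).1 (orderOf_eq_one_iff.1 h1)

/-! ### The hypothesis -/

/-- Class sizes are exactly `1`, `m`, `m * n`. -/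
structure Hyp (G : Type*) [Group G] (m n : ℕ) : Prop where
  hm : 1 < m
  hn : 1 < n
  hco : m.Coprime n
  cases : ∀ g : G, cl g = 1 ∨ cl g = m ∨ cl g = m * n
  ex_m : ∃ g : G, cl g = m
  ex_mn : ∃ g : G, cl g = m * n

variable {m n : ℕ}

theorem Hyp.lt (S : Hyp G m n) : m < m * n := lt_mul_right (by have := S.hm; omega) S.hn

theorem Hyp.noncentral (S : Hyp G m n) {g : G} (hg : g ∉ center G) : cl g = m ∨ cl g = m * n :=
  (S.cases g).resolve_left fun h => hg (cl_eq_one.1 h)

theorem Hyp.notMem_center_of_m (S : Hyp G m n) {g : G} (hg : cl g = m) : g ∉ center G := fun h => by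
  have h1 := cl_eq_one.2 h
  have := S.hm
  omega

theorem Hyp.notMem_center_of_mn (S : Hyp G m n) {g : G} (hg : cl g = m * n) : g ∉ center G :=
  fun h => by
    have h1 := cl_eq_one.2 h
    have := S.hm
    have := S.lt
    omega

theorem Hyp.dvd_cl (S : Hyp G m n) {g : G} (hg : g ∉ center G) : m ∣ cl g := by
  rcases S.noncentral hg with h | h <;> rw [h]
  exact dvd_mul_right m n

theorem Hyp.cl_eq_m (S : Hyp G m n) {g : G} (hg : g ∉ center G) (h : cl g ∣ m) : cl g = m :=
  (S.noncentral hg).resolve_right fun e => by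
    have := Nat.le_of_dvd (by have := S.hm; omega) h
    have := S.lt
    omega

/-- An element of type 2 centralises only elements centralising its centraliser. -/
theorem Hyp.cent_le (S : Hyp G m n) {a b : G} (hb : cl b = m * n) (hab : a * b = b * a)
    (hco : (orderOf a).Coprime (orderOf b)) : cent b ≤ cent a := by
  have h1 : cent (a * b) = cent a ⊓ cent b := cent_mul_coprime hab hco
  have h2 : cent (a * b) ≤ cent b := h1 ▸ inf_le_right
  have h3 := cl_dvd h2
  rw [hb] at h3
  have h4 : cl (a * b) ≤ cl b := by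
    have := S.hm
    have := S.lt
    rcases S.cases (a * b) with h | h | h <;> rw [h, hb] <;> omega
  rw [← eq_of_le_of_cl h2 h4, h1]
  exact inf_le_left

/-- Commuting type 2 elements of coprime orders have the same centraliser. -/
theorem Hyp.cent_eq (S : Hyp G m n) {a b : G} (ha : cl a = m * n) (hb : cl b = m * n)
    (hab : a * b = b * a) (hco : (orderOf a).Coprime (orderOf b)) : cent a = cent b :=
  le_antisymm (S.cent_le ha hab.symm hco.symm) (S.cent_le hb hab hco)

/-- Inside the centraliser of a type 1 element, coprime elements have class size `1` or `n`. -/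
theorem Hyp.relIndex_cases (S : Hyp G m n) {x y : G} (hx : cl x = m) (hy : y ∈ cent x)
    (hco : (orderOf x).Coprime (orderOf y)) :
    (cent y).relIndex (cent x) = 1 ∨ (cent y).relIndex (cent x) = n := by
  have h1 : cent (x * y) = cent x ⊓ cent y := cent_mul_coprime (mem_cent.1 hy) hco
  have h2 := relIndex_mul_index (inf_le_left : cent x ⊓ cent y ≤ cent x)
  rw [inf_relIndex_left, ← h1] at h2
  have h3 : (cent y).relIndex (cent x) * m = cl (x * y) := by rw [← hx]; exact h2
  have := S.hm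
  rcases S.cases (x * y) with h | h | h <;> rw [h] at h3
  · exact absurd (Nat.eq_one_of_mul_eq_one_left h3) (by omega)
  · left
    exact Nat.eq_of_mul_eq_mul_right (show 0 < m by omega) (h3.trans (one_mul m).symm)
  · right
    exact Nat.eq_of_mul_eq_mul_right (show 0 < m by omega) (h3.trans (mul_comm m n))

/-- The `p`-part, `p ∣ m`, of a centraliser of a noncentral element. -/
theorem Hyp.pp_cent (S : Hyp G m n) [hp : Fact p.Prime] (hpm : p ∣ m) {g : G}
    (hg : g ∉ center G) : pp p (cent g) * p ^ m.factorization p = p ^ (Nat.card G).factorization p := by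
  rw [← pp_mul_cl g]
  congr 2
  rcases S.noncentral hg with h | h <;> rw [h]
  have := S.hm
  have := S.hn
  rw [Nat.factorization_mul (by omega) (by omega), Finsupp.add_apply,
    Nat.factorization_eq_zero_of_not_dvd fun h => (Nat.Prime.not_dvd_one hp.out)
      (S.hco.gcd_eq_one ▸ Nat.dvd_gcd hpm h), add_zero]

theorem Hyp.pp_cent_eq (S : Hyp G m n) [hp : Fact p.Prime] (hpm : p ∣ m) {a b : G}
    (ha : a ∉ center G) (hb : b ∉ center G) : pp p (cent a) = pp p (cent b) :=
  Nat.eq_of_mul_eq_mul_right (pow_pos hp.out.pos _) ((S.pp_cent hpm ha).trans (S.pp_cent hpm hb).symm)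

theorem Hyp.pp_cent_lt (S : Hyp G m n) [hp : Fact p.Prime] (hpm : p ∣ m) {g : G}
    (hg : g ∉ center G) (P : Sylow p G) : pp p (cent g) < Nat.card (P : Subgroup G) := by
  have hm0 : m ≠ 0 := by have := S.hm; omega
  rw [sylow_card, ← S.pp_cent hpm hg]
  exact lt_mul_of_one_lt_right (pow_pos hp.out.pos _)
    (Nat.one_lt_pow (hp.out.factorization_pos_of_dvd hm0 hpm).ne' hp.out.one_lt)

theorem Hyp.exists_noncentral_pEl (S : Hyp G m n) [hp : Fact p.Prime] (hpm : p ∣ m)
    (P : Sylow p G) : ∃ g ∈ (P : Subgroup G), g ∉ center G := by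
  by_contra h
  push Not at h
  obtain ⟨g, hg⟩ := S.ex_m
  exact absurd (card_le_pp (fun x hx => center_le_cent g (h x hx)) P.isPGroup')
    (not_le.2 (S.pp_cent_lt hpm (S.notMem_center_of_m hg) P))

/-- Sylow subgroups of centralisers of noncentral elements are larger than the centre's. -/
theorem Hyp.pp_center_lt (S : Hyp G m n) [hp : Fact p.Prime] (hpm : p ∣ m) {g : G}
    (hg : g ∉ center G) : pp p (center G) < pp p (cent g) := by
  obtain ⟨P⟩ := (inferInstance : Nonempty (Sylow p G))
  obtain ⟨e, heP, heZ⟩ := S.exists_noncentral_pEl hpm P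
  rw [S.pp_cent_eq hpm hg heZ]
  obtain ⟨W, hWZ, hW, hWc⟩ := exists_pp_subgroup p (center G)
  have hWn : W ≤ normalizer (zpowers e : Set G) := fun w hw =>
    centralizer_le_normalizer _ (mem_centralizer_iff.2 fun y _ => mem_center_iff.1 (hWZ hw) y)
  have hp' : IsPGroup p ↥(W ⊔ zpowers e) :=
    hW.to_sup_of_normal_right' ((isPEl_of_mem P.isPGroup' heP).isPGroup_zpowers) hWn
  have hlt : W < W ⊔ zpowers e := lt_of_le_of_ne le_sup_left fun h =>
    heZ (hWZ (h.symm ▸ mem_sup_right (mem_zpowers e)))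
  rw [← hWc]
  refine lt_of_lt_of_le ?_ (card_le_pp (sup_le (hWZ.trans (center_le_cent e))
    (zpowers_le.2 (self_mem_cent e))) hp')
  refine lt_of_le_of_ne (Subgroup.card_le_of_le le_sup_left) fun h => hlt.ne ?_
  exact eq_of_le_of_card_ge le_sup_left h.ge

/-- A `p`-subgroup of order greater than the centre's `p`-part is not central. -/
theorem exists_notMem_center [Fact p.Prime] {W : Subgroup G} (hW : IsPGroup p W)
    (h : pp p (center G) < Nat.card W) : ∃ g ∈ W, g ∉ center G := by
  by_contra hne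
  push Not at hne
  exact absurd (card_le_pp hne hW) (not_le.2 h)

theorem Hyp.exists_noncentral_mem_cent (S : Hyp G m n) [Fact p.Prime] (hpm : p ∣ m) {g : G}
    (hg : g ∉ center G) : ∃ v ∈ cent g, IsPEl p v ∧ v ∉ center G := by
  obtain ⟨W, hW, hWp, hWc⟩ := exists_pp_subgroup p (cent g)
  obtain ⟨v, hv, hv'⟩ := exists_notMem_center hWp (by rw [hWc]; exact S.pp_center_lt hpm hg)
  exact ⟨v, hW hv, isPEl_of_mem hWp hv, hv'⟩

/-- A type 1 element has a type 1 primary part. -/
theorem Hyp.exists_primary_type_one (S : Hyp G m n) :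
    ∃ q : ℕ, q.Prime ∧ ∃ x : G, IsPEl q x ∧ cl x = m := by
  obtain ⟨g, hg⟩ := S.ex_m
  by_contra h
  push Not at h
  refine S.notMem_center_of_m hg (mem_of_forall_primary fun q hq y hy hyq => ?_)
  by_contra hyZ
  exact h q hq y hyq (S.cl_eq_m hyZ (hg ▸ cl_dvd (cent_le_of_mem_zpowers hy)))

end Cfsg.Agent.ClassSize.TwoSteps
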