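import Cfsg.Agent.Lib.ClassSize.TwoSteps.Tools
import Cfsg.Agent.S4035
import Cfsg.Agent.S4134

/-!
# Class sizes `{1, m, mn}`: centralisers of class size `m` elements of `π(m)`-order are abelian
-/

namespace Cfsg.Agent.ClassSize.TwoSteps

open Subgroup Cfsg.Agent.ClassSize.CoprimeTop
open scoped commutatorElement

variable {G : Type*} [Group G] [Finite G] {p q m n : ℕ}

theorem centralizer_singleton_subgroupOf (H : Subgroup G) (y : H) :
    centralizer ({y} : Set H) = (cent (y : G)).subgroupOf H := by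
  ext v
  rw [mem_centralizer_singleton_iff, mem_subgroupOf, mem_cent]
  exact ⟨fun h => (congrArg Subtype.val h).symm, fun h => Subtype.ext h.symm⟩

/-- The shape of the centraliser of a type 1 `p`-element, `p ∣ m`. -/
theorem Hyp.exists_split_cent (S : Hyp G m n) [hp : Fact p.Prime] (hpm : p ∣ m) {x : G}
    (hx : IsPEl p x) (hxm : cl x = m) :
    ∃ R H₁ : Subgroup G, R ≤ cent x ∧ H₁ ≤ cent x ∧ IsPGroup p R ∧ ¬ p ∣ Nat.card H₁ ∧
      R ⊔ H₁ = cent x ∧ (∀ a ∈ R, ∀ b ∈ H₁, a * b = b * a) ∧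
      ∀ b : H₁, (centralizer ({b} : Set H₁)).index = 1 ∨ (centralizer ({b} : Set H₁)).index = n := by
  classical
  set H := cent x
  have hpn : ¬ p ∣ n := fun h => hp.out.not_dvd_one (S.hco.gcd_eq_one ▸ Nat.dvd_gcd hpm h)
  have hreg : ∀ y : H, (orderOf y).Coprime p →
      (centralizer ({y} : Set H)).index = 1 ∨ (centralizer ({y} : Set H)).index = n := by
    intro y hy
    rw [centralizer_singleton_subgroupOf]
    refine S.relIndex_cases hxm y.2 ?_
    obtain ⟨k, hk⟩ := hx.orderOf_dvd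
    rw [Subgroup.orderOf_coe]
    exact (hy.symm.pow_left k).coprime_dvd_left hk
  obtain ⟨P⟩ := (inferInstance : Nonempty (Sylow p H))
  obtain ⟨hPn, H₀, hH₀, hH₀p, hinf, hsup⟩ := Cfsg.Agent.S4035.result (G := H) (p := p) (fun y hy h => by
    rw [PrimeParts.ncard_carrier] at h
    rcases hreg y hy with e | e <;> rw [e] at h
    · exact hp.out.not_dvd_one h
    · exact hpn h) P
  have hcom : ∀ a ∈ (P : Subgroup H), ∀ b ∈ H₀, a * b = b * a := fun a ha b hb =>
    (PCore.commute_of_normal_of_disjoint hPn hH₀ (disjoint_iff.2 hinf) ha hb)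
  refine ⟨(P : Subgroup H).map H.subtype, H₀.map H.subtype, map_subtype_le _, map_subtype_le _,
    P.isPGroup'.map _, by rwa [card_map_of_injective H.subtype_injective],
    by rw [← Subgroup.map_sup, hsup, ← MonoidHom.range_eq_map, range_subtype], ?_, ?_⟩
  · rintro _ ⟨a, ha, rfl⟩ _ ⟨b, hb, rfl⟩
    exact congrArg H.subtype (hcom a ha b hb)
  · intro b
    obtain ⟨c, hc, hcb⟩ := b.2
    have hco : (orderOf c).Coprime p :=
      ((hp.out.coprime_iff_not_dvd).2 hH₀p).symm.coprime_dvd_left (orderOf_dvd_natCard H₀ hc)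
    have h1 : (centralizer ({b} : Set (H₀.map H.subtype))).index =
        (centralizer ({c} : Set H)).index := by
      rw [centralizer_singleton_subgroupOf, centralizer_singleton_subgroupOf, ← hcb]
      show (cent (c : G)).relIndex (H₀.map H.subtype) = ((cent (c : G)).subgroupOf H).index
      rw [relIndex_map_subtype_right' (cent (c : G)) H₀]
      set C := (cent (c : G)).subgroupOf H
      have hPC : (P : Subgroup H) ≤ C := fun a ha =>
        mem_cent.2 (congrArg Subtype.val (hcom a ha c hc).symm)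
      have htop : C ⊔ H₀ = ⊤ := top_le_iff.1 (hsup ▸ sup_le_sup_right hPC _)
      rw [← SylowCount.relIndex_self_sup C H₀, htop, relIndex_top_right]
    rw [h1]
    exact hreg c hco
where
  relIndex_map_subtype_right' {H : Subgroup G} (A : Subgroup G) (B : Subgroup H) :
      A.relIndex (B.map H.subtype) = (A.subgroupOf H).relIndex B := by
    rw [subgroupOf, relIndex_comap]

/-- The `q`-elements of `cent x`, with `n` a power of `q` unless `cent x` has abelian `p`-complement. -/
theorem Hyp.exists_normal_sylow (S : Hyp G m n) [hp : Fact p.Prime] (hpm : p ∣ m) {x : G}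
    (hx : IsPEl p x) (hxm : cl x = m) [hq : Fact q.Prime] {a : ℕ} (hn : n = q ^ a) :
    ∃ Q : Sylow q G, (Q : Subgroup G) ≤ cent x ∧
      cent x ≤ normalizer ((Q : Subgroup G) : Set G) ∧
      (∀ b ∈ cent x, IsPEl q b → b ∈ (Q : Subgroup G)) ∧
      ∀ r : ℕ, r.Prime → r ∣ m → ∀ b ∈ cent x, IsPEl r b →
        b ∈ centralizer ((Q : Subgroup G) : Set G) := by
  classical
  obtain ⟨R, H₁, hR, hH₁, hRp, hpH₁, hsup, hcom, hcl⟩ := S.exists_split_cent hpm hx hxm
  have hqn : q ∣ n := by
    rw [hn]; refine dvd_pow_self q ?_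
    rintro rfl
    have := S.hn
    rw [pow_zero] at hn
    omega
  have hqm : ¬ q ∣ m := fun h => hq.out.not_dvd_one (S.hco.gcd_eq_one ▸ Nat.dvd_gcd h hqn)
  have hpq : p ≠ q := fun e => hqm (e ▸ hpm)
  -- elements of order prime to `p` lie in `H₁`
  have hH₁n : cent x ≤ normalizer (H₁ : Set G) := hsup ▸ sup_le
    (fun a ha => centralizer_le_normalizer _
      (mem_centralizer_iff.2 fun b hb => (hcom a ha b hb).symm)) le_normalizer
  have hin : ∀ r : ℕ, r.Prime → r ≠ p → ∀ b ∈ cent x, IsPEl r b → b ∈ H₁ := by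
    intro r hr hrp b hb hbr
    have := Fact.mk hr
    have hn' : (H₁.subgroupOf (cent x)).Normal := normal_subgroupOf_of_le_normalizer hH₁n
    refine mem_of_normal (p := r) (C := H₁.subgroupOf (cent x)) (H := ⊤) le_top ?_
      (g := (⟨b, hb⟩ : cent x)) (hbr.imp fun _ h => Subtype.ext h) (mem_top _)
    have h0 : R ⊓ H₁ = ⊥ := by
      obtain ⟨k, hk⟩ := IsPGroup.iff_card.1 hRp
      exact disjoint_iff.1 (disjoint_of_coprime_natCard
        (hk ▸ ((hp.out.coprime_iff_not_dvd).2 hpH₁).pow_left k))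
    have hcard : Nat.card (cent x) = Nat.card R * Nat.card H₁ := by
      rw [← hsup, Coprime.card_sup_of_le_normalizer ((hR.trans hH₁n)) h0]
    obtain ⟨k, hk⟩ := IsPGroup.iff_card.1 hRp
    rw [pp, pp, card_top, hcard, hk, Nat.card_congr (subgroupOfEquivOfLe hH₁).toEquiv,
      Nat.factorization_mul (pow_ne_zero _ hp.out.ne_zero) Nat.card_pos.ne', Finsupp.add_apply,
      hp.out.factorization_pow, Finsupp.single_eq_of_ne hrp, zero_add]
  -- the `q`-part of `H₁`
  have hQ₀ : ∃ Q₀ : Sylow q H₁, (Q₀ : Subgroup H₁).Normal ∧ ∀ r : ℕ, r.Prime → r ≠ q → ∀ b : H₁,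
      IsPEl r (b : G) → ∀ c ∈ (Q₀ : Subgroup H₁), b * c = c * b := by
    by_cases hab : ∀ b : H₁, (centralizer ({b} : Set H₁)).index = 1
    · have hc : ∀ b c : H₁, b * c = c * b := fun b c =>
        (mem_centralizer_singleton_iff.1 ((index_eq_one.1 (hab c)).ge (mem_top b)) : _)
      refine ⟨default, ⟨fun b hb g => ?_⟩, fun r _ _ b _ c _ => hc b c⟩
      rwa [hc g b, mul_inv_cancel_right]
    · push Not at hab
      obtain ⟨b₀, hb₀⟩ := hab
      obtain ⟨q', hq', a', hn', hall⟩ := Cfsg.Agent.S4134.result (G := H₁) n S.hn hcl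
        ⟨b₀, (hcl b₀).resolve_left hb₀⟩
      have heq : q' = q :=
        ((Nat.prime_dvd_prime_iff_eq hq.out hq'.out).1 (hq.out.dvd_of_dvd_pow (hn' ▸ hqn))).symm
      subst heq
      obtain ⟨hQn, ⟨N, hNn, hNc, hNcomm, hNQ⟩, -⟩ := hall default
      refine ⟨default, hQn, fun r hr hrq b hb c hc => hNQ b ?_ c hc⟩
      have := Fact.mk hr
      refine mem_of_normal (p := r) (C := N) (H := ⊤) le_top ?_ (g := b)
        (hb.imp fun _ h => Subtype.ext h) (mem_top _)
      obtain ⟨k, hk⟩ := IsPGroup.iff_card.1 (default : Sylow q' H₁).isPGroup'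
      rw [pp, pp, card_top, ← hNc.card_mul, hk,
        Nat.factorization_mul Nat.card_pos.ne' (pow_ne_zero _ hq.out.ne_zero), Finsupp.add_apply,
        hq.out.factorization_pow, Finsupp.single_eq_of_ne hrq, add_zero]
  obtain ⟨Q₀, hQn, hQc⟩ := hQ₀
  set Q' := (Q₀ : Subgroup H₁).map H₁.subtype with hQ'
  have hQc' : Nat.card Q' = q ^ (Nat.card G).factorization q := by
    rw [hQ', card_map_of_injective H₁.subtype_injective, Q₀.card_eq_multiplicity]
    congr 1
    have h1 := factorization_index (p := q) (cent x)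
    rw [show (cent x).index = m from hxm, Nat.factorization_eq_zero_of_not_dvd hqm, add_zero] at h1
    rw [← h1, ← hsup, Coprime.card_sup_of_le_normalizer (hR.trans hH₁n)]
    · obtain ⟨k, hk⟩ := IsPGroup.iff_card.1 hRp
      rw [hk, Nat.factorization_mul (pow_ne_zero _ hp.out.ne_zero) Nat.card_pos.ne',
        Finsupp.add_apply, hp.out.factorization_pow, Finsupp.single_eq_of_ne hpq.symm, zero_add]
    · obtain ⟨k, hk⟩ := IsPGroup.iff_card.1 hRp
      exact disjoint_iff.1 (disjoint_of_coprime_natCard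
        (hk ▸ ((hp.out.coprime_iff_not_dvd).2 hpH₁).pow_left k))
  have hQH₁ : Q' ≤ H₁ := map_subtype_le _
  have hmem : ∀ b ∈ cent x, IsPEl q b → b ∈ Q' := by
    intro b hb hbq
    have hb1 := hin q hq.out hpq.symm b hb hbq
    refine ⟨⟨b, hb1⟩, ?_, rfl⟩
    refine mem_of_normal (p := q) (C := (Q₀ : Subgroup H₁)) (H := ⊤) le_top ?_
      (hbq.imp fun _ h => Subtype.ext h) (mem_top _)
    rw [pp, card_top, ← Q₀.card_eq_multiplicity]
    exact card_le_pp le_rfl Q₀.isPGroup'
  refine ⟨Sylow.ofCard Q' hQc', hQH₁.trans hH₁, ?_, hmem, ?_⟩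
  · intro g hg
    have key : ∀ g ∈ cent x, ∀ b ∈ Q', g * b * g⁻¹ ∈ Q' := fun g hg b hb => by
      refine hmem _ ((cent x).mul_mem ((cent x).mul_mem hg (hH₁ (hQH₁ hb))) (inv_mem hg)) ?_
      obtain ⟨k, hk⟩ := isPEl_of_mem (Q₀.isPGroup'.map H₁.subtype) hb
      exact ⟨k, by rw [conj_pow, hk, mul_one, mul_inv_cancel]⟩
    refine mem_normalizer_iff.2 fun b => ⟨key g hg b, fun hb => ?_⟩
    simpa [mul_assoc] using key g⁻¹ (inv_mem hg) _ hb
  · intro r hr hrm b hb hbr
    refine mem_centralizer_iff.2 ?_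
    rintro _ ⟨c, hc, rfl⟩
    by_cases hrp : r = p
    · subst hrp
      have hRn : (R.subgroupOf (cent x)).Normal := normal_subgroupOf_of_le_normalizer
        (hsup ▸ sup_le le_normalizer (fun a ha => centralizer_le_normalizer _
          (mem_centralizer_iff.2 fun r hr => hcom r hr a ha)))
      have hbR : b ∈ R := mem_of_normal (p := r) (C := R.subgroupOf (cent x)) (H := ⊤) le_top (by
        obtain ⟨k, hk⟩ := IsPGroup.iff_card.1 hRp
        have h0 : R ⊓ H₁ = ⊥ := disjoint_iff.1 (disjoint_of_coprime_natCard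
          (hk ▸ ((hp.out.coprime_iff_not_dvd).2 hpH₁).pow_left k))
        rw [pp, pp, card_top, Nat.card_congr (subgroupOfEquivOfLe hR).toEquiv, ← hsup,
          Coprime.card_sup_of_le_normalizer (hR.trans hH₁n) h0,
          Nat.factorization_mul Nat.card_pos.ne' Nat.card_pos.ne', Finsupp.add_apply,
          Nat.factorization_eq_zero_of_not_dvd hpH₁, add_zero])
        (g := (⟨b, hb⟩ : cent x)) (hbr.imp fun _ h => Subtype.ext h) (mem_top _)
      exact (hcom b hbR c c.2).symm
    · exact (congrArg Subtype.val (hQc r hr (fun e => hqm (e ▸ hrm))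
        ⟨b, hin r hr hrp b hb hbr⟩ hbr c hc)).symm

/-- The `p`-complement of `cent x` is abelian. -/
theorem Hyp.index_eq_one_of_split (S : Hyp G m n) [hp : Fact p.Prime] (hpm : p ∣ m) {x : G}
    (hx : IsPEl p x) (hxm : cl x = m) {H₁ : Subgroup G} (hH₁ : H₁ ≤ cent x)
    (hpH₁ : ¬ p ∣ Nat.card H₁)
    (hcl : ∀ b : H₁, (centralizer ({b} : Set H₁)).index = 1 ∨ (centralizer ({b} : Set H₁)).index = n)
    (b₀ : H₁) : (centralizer ({b₀} : Set H₁)).index = 1 := by
  classical
  by_contra hne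
  obtain ⟨q, hq, a, hn, hall⟩ := Cfsg.Agent.S4134.result (G := H₁) n S.hn hcl
    ⟨b₀, (hcl b₀).resolve_left hne⟩
  obtain ⟨Q, hQx, hQn, hQmem, hQcomm⟩ := S.exists_normal_sylow hpm hx hxm hn
  have hqn : q ∣ n := by
    rw [hn]; refine dvd_pow_self q ?_
    rintro rfl
    have := S.hn
    rw [pow_zero] at hn
    omega
  -- a noncentral `q`-element `b` in the centraliser of a type 2 element
  obtain ⟨b, hbQ, hb⟩ : ∃ b : H₁, IsPEl q (b : G) ∧
      (centralizer ({b} : Set H₁)).index = n := by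
    by_contra hno
    push Not at hno
    obtain ⟨hQ₀n, ⟨N, hNn, hNc, hNcomm, hNQ⟩, -⟩ := hall default
    refine hne (index_eq_one.2 (eq_top_iff.2 fun v _ => ?_))
    have hQz : ∀ c ∈ ((default : Sylow q H₁) : Subgroup H₁), c ∈ center H₁ := fun c hc => by
      have h := (hcl c).resolve_right (hno c (isPEl_of_mem
        ((default : Sylow q H₁).isPGroup'.map H₁.subtype) ⟨c, hc, rfl⟩))
      exact mem_center_iff.2 fun w => mem_centralizer_singleton_iff.1 ((index_eq_one.1 h).ge (mem_top w))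
    have hN : N ≤ center H₁ := fun c hc => mem_center_iff.2 fun w => by
      obtain ⟨⟨c', d⟩, hw⟩ := hNc.2 w
      rw [← hw]
      show (c' : H₁) * d * c = c * ((c' : H₁) * d)
      rw [mul_assoc, ← mem_center_iff.1 (hQz d d.2) c, ← mul_assoc,
        show (c' : H₁) * c = c * c' from congrArg Subtype.val (hNcomm.is_comm.comm c' ⟨c, hc⟩),
        mul_assoc]
    obtain ⟨⟨c', d⟩, hb0⟩ := hNc.2 b₀
    refine mem_centralizer_singleton_iff.2 ?_
    have : b₀ ∈ center H₁ := hb0 ▸ mul_mem (hN c'.2) (hQz d d.2)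
    exact mem_center_iff.1 this v
  have hbx : (b : G) ∈ cent x := hH₁ b.2
  have hbZ : (b : G) ∉ center G := fun h => by
    have : centralizer ({b} : Set H₁) = ⊤ := eq_top_iff.2 fun v _ =>
      mem_centralizer_singleton_iff.2 (Subtype.ext (mem_center_iff.1 h v))
    rw [this, index_top] at hb
    have := S.hn
    omega
  have hqm : ¬ q ∣ m := fun h => hq.out.not_dvd_one (S.hco.gcd_eq_one ▸ Nat.dvd_gcd h hqn)
  have hpq : p ≠ q := fun e => hqm (e ▸ hpm)
  set w := x * (b : G)
  have hco := hx.coprime hp.out hq.out hpq hbQ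
  have hwc : cent w = cent x ⊓ cent (b : G) := cent_mul_coprime (mem_cent.1 hbx) hco
  have hw2 : cl w = m * n := by
    have h2 := relIndex_mul_index (inf_le_left : cent x ⊓ cent (b : G) ≤ cent x)
    rw [inf_relIndex_left, ← hwc] at h2
    rcases S.relIndex_cases hxm hbx hco with h | h
    · exfalso
      have h3 : (cent (b : G)).relIndex H₁ = 1 :=
        relIndex_eq_one.2 (hH₁.trans (relIndex_eq_one.1 h))
      rw [centralizer_singleton_subgroupOf] at hb
      have := S.hn
      exact absurd (h3.symm.trans hb) (by omega)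
    · rw [h, show (cent x).index = m from hxm, mul_comm] at h2
      exact h2.symm
  -- every noncentral `π(m)`-element of prime power order has class size `m`
  have hone : ∀ r : ℕ, r.Prime → r ∣ m → ∀ u : G, IsPEl r u → u ∉ center G → cl u = m := by
    intro r hr hrm u hur huZ
    have := Fact.mk hr
    refine (S.noncentral huZ).resolve_right fun hu2 => ?_
    have hlt : pp q (center G) < pp q (cent u) := by
      rw [show pp q (cent u) = pp q (cent w) by rw [pp, pp, card_cent_eq (hu2.trans hw2.symm)]]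
      exact pp_center_lt_of_mem (center_le_cent w) hbQ
        (hwc.ge ⟨hbx, self_mem_cent (b : G)⟩) hbZ
    obtain ⟨Y, hYu, hY, hYc⟩ := exists_pp_subgroup q (cent u)
    obtain ⟨y, hyY, hyZ⟩ := exists_notMem_center hY (by rw [hYc]; exact hlt)
    have hyq := isPEl_of_mem hY hyY
    obtain ⟨k, -, hk⟩ := (Nat.dvd_prime_pow hq.out).1 hyq.orderOf_dvd.choose_spec
    obtain ⟨h, hh⟩ := exists_conj_mem hq.out hk (H := (Q : Subgroup G)) Q.not_dvd_index
    set y' := h⁻¹ * y * h
    set u' := h⁻¹ * u * h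
    have hy'Z : y' ∉ center G := fun e => hyZ (by
      have := (center G).normal_of_characteristic.conj_mem _ e h
      simpa [y', mul_assoc] using this)
    obtain ⟨W, hWx, hW, hWc⟩ := exists_pp_subgroup r (cent x)
    have hWy : W ≤ cent y' := fun v hv => mem_cent.2
      (mem_centralizer_iff.1 (hQcomm r hr hrm v (hWx hv) (isPEl_of_mem hW hv)) y' hh)
    rw [S.pp_cent_eq hrm (S.notMem_center_of_m hxm) hy'Z] at hWc
    have hidx : ¬ r ∣ (W.subgroupOf (cent y')).index := by
      intro hd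
      have h1 := card_mul_index (W.subgroupOf (cent y'))
      rw [Nat.card_congr (subgroupOfEquivOfLe hWy).toEquiv, hWc] at h1
      have h2 : pp r (cent y') * r ∣ Nat.card (cent y') := h1 ▸ mul_dvd_mul_left _ hd
      rw [pp, ← pow_succ] at h2
      have := (hr.pow_dvd_iff_le_factorization Nat.card_pos.ne').1 h2
      omega
    have hu'r : IsPEl r u' := by
      obtain ⟨k, hk⟩ := hur
      exact ⟨k, by simpa [u', mul_assoc] using
        (conj_pow (a := h⁻¹) (b := u) (i := r ^ k)).trans (by rw [hk]; group)⟩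
    have hu'y : u' ∈ cent y' := mem_cent.2 (by
      have h1 : u * y = y * u := mem_cent.1 (hYu hyY)
      show h⁻¹ * y * h * (h⁻¹ * u * h) = h⁻¹ * u * h * (h⁻¹ * y * h)
      calc h⁻¹ * y * h * (h⁻¹ * u * h) = h⁻¹ * (y * u) * h := by group
        _ = h⁻¹ * (u * y) * h := by rw [h1]
        _ = h⁻¹ * u * h * (h⁻¹ * y * h) := by group)
    obtain ⟨j, -, hj⟩ := (Nat.dvd_prime_pow hr).1 hu'r.orderOf_dvd.choose_spec
    obtain ⟨⟨c, hc⟩, hc'⟩ := exists_conj_mem (G := cent y') hr (d := ⟨u', hu'y⟩) (b := j)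
      (by rw [Subgroup.orderOf_mk]; exact hj) hidx
    have hcW : c⁻¹ * u' * c ∈ W := hc'
    have hQle : (Q : Subgroup G) ≤ cent (c⁻¹ * u' * c) := fun v hv => mem_cent.2
      (mem_centralizer_iff.1 (hQcomm r hr hrm _ (hWx hcW) (isPEl_of_mem hW hcW)) v hv).symm
    have hcl' : cl (c⁻¹ * u' * c) = m * n := by
      have e1 := cl_conj u (h * c)⁻¹
      rw [hu2, inv_inv] at e1
      rw [← e1]
      congr 1
      simp [u', mul_assoc]
    refine Q.not_dvd_index (dvd_trans ?_ (index_dvd_of_le hQle))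
    show q ∣ cl (c⁻¹ * u' * c)
    rw [hcl']
    exact hqn.mul_left m
  -- hence `Q` is normal and centralised by every such element
  have huniq : ∀ r : ℕ, r.Prime → r ∣ m → ∀ u : G, IsPEl r u → u ∉ center G →
      ∃ Qu : Sylow q G, (Qu : Subgroup G) ≤ cent u ∧ ∀ g ∈ cent u, IsPEl q g →
        g ∈ (Qu : Subgroup G) := by
    intro r hr hrm u hur huZ
    have := Fact.mk hr
    obtain ⟨Qu, h1, -, h3, -⟩ := S.exists_normal_sylow hrm hur (hone r hr hrm u hur huZ) hn
    exact ⟨Qu, h1, h3⟩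
  have hdvd : ∀ r : ℕ, r.Prime → r ∣ m →
      ¬ r ∣ (normalizer ((Q : Subgroup G) : Set G)).index := by
    intro r hr hrm hd
    have := Fact.mk hr
    obtain ⟨P⟩ := (inferInstance : Nonempty (Sylow r G))
    obtain ⟨u, hu, huZ, -, hcom⟩ := exists_central_mod S hrm P
    obtain ⟨Qu, hQu, hQumem⟩ := huniq r hr hrm u (isPEl_of_mem P.isPGroup' hu) huZ
    have key : ∀ g ∈ (P : Subgroup G), ∀ v ∈ (Qu : Subgroup G), g * v * g⁻¹ ∈ (Qu : Subgroup G) := by
      intro g hg v hv
      refine hQumem _ ((mem_normalizer_iff.1 (mem_normalizer_cent (hcom g hg)) v).1 (hQu hv)) ?_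
      obtain ⟨k, hk⟩ := isPEl_of_mem Qu.isPGroup' hv
      exact ⟨k, by rw [conj_pow, hk, mul_one, mul_inv_cancel]⟩
    have hPN : (P : Subgroup G) ≤ normalizer ((Qu : Subgroup G) : Set G) := fun g hg => by
      refine mem_normalizer_iff.2 fun v => ⟨key g hg v, fun hv => ?_⟩
      simpa [mul_assoc] using key g⁻¹ (inv_mem hg) _ hv
    have h1 : (normalizer ((Q : Subgroup G) : Set G)).index =
        (normalizer ((Qu : Subgroup G) : Set G)).index :=
      Q.card_eq_index_normalizer.symm.trans Qu.card_eq_index_normalizer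
    exact P.not_dvd_index (h1 ▸ hd |>.trans (index_dvd_of_le hPN))
  have hQnormal : normalizer ((Q : Subgroup G) : Set G) = ⊤ := by
    rw [← index_eq_one]
    by_contra h
    obtain ⟨r, hr, hrd⟩ := Nat.exists_prime_and_dvd h
    exact hdvd r hr ((hrd.trans (index_dvd_of_le hQn)).trans (dvd_of_eq hxm)) hrd
  have : (Q : Subgroup G).Normal := normalizer_eq_top_iff.1 hQnormal
  obtain ⟨P⟩ := (inferInstance : Nonempty (Sylow p G))
  have hbQ' : (b : G) ∈ (Q : Subgroup G) := hQmem _ hbx hbQ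
  have hPb : (P : Subgroup G) ≤ cent (b : G) := by
    intro g hg
    by_cases hgZ : g ∈ center G
    · exact center_le_cent _ hgZ
    obtain ⟨Qu, hQu, -⟩ := huniq p hp.out hpm g (isPEl_of_mem P.isPGroup' hg) hgZ
    have : Subsingleton (Sylow q G) := Q.unique_of_normal this |>.instSubsingleton
    exact cent_comm.1 (hQu ((Subsingleton.elim Q Qu) ▸ hbQ'))
  exact P.not_dvd_index ((hpm.trans (S.dvd_cl hbZ)).trans (index_dvd_of_le hPb))

/-- **Case A**: the centraliser of a type 1 `π(m)`-element is abelian, and equals the centraliser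
of each of its noncentral elements. -/
theorem Hyp.abelian_cent (S : Hyp G m n) [hp : Fact p.Prime] (hpm : p ∣ m) {x : G}
    (hx : IsPEl p x) (hxm : cl x = m) :
    (∀ a ∈ cent x, ∀ b ∈ cent x, a * b = b * a) ∧
      ∀ a ∈ cent x, a ∉ center G → cent a = cent x := by
  classical
  obtain ⟨R, H₁, hR, hH₁, hRp, hpH₁, hsup, hcom, hcl⟩ := S.exists_split_cent hpm hx hxm
  have hcomm₁ : ∀ a ∈ H₁, ∀ b ∈ H₁, a * b = b * a := fun a ha b hb => by
    have h := index_eq_one.1 (S.index_eq_one_of_split hpm hx hxm hH₁ hpH₁ hcl ⟨b, hb⟩)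
    exact congrArg Subtype.val (mem_centralizer_singleton_iff.1 (h.ge (mem_top ⟨a, ha⟩)))
  -- a noncentral element of a Sylow subgroup for a prime dividing `n`
  obtain ⟨q, hq, hqn⟩ := Nat.exists_prime_and_dvd (show n ≠ 1 by have := S.hn; omega)
  have := Fact.mk hq
  have hqm : ¬ q ∣ m := fun h => hq.not_dvd_one (S.hco.gcd_eq_one ▸ Nat.dvd_gcd h hqn)
  have hpq : p ≠ q := fun e => hqm (e ▸ hpm)
  obtain ⟨W, hWx, hW, hWc⟩ := exists_pp_subgroup q (cent x)
  have hWfull : Nat.card W = q ^ (Nat.card G).factorization q := by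
    have h1 := factorization_index (p := q) (cent x)
    rw [show (cent x).index = m from hxm, Nat.factorization_eq_zero_of_not_dvd hqm, add_zero] at h1
    rw [hWc, pp, h1]
  set Q := Sylow.ofCard W hWfull
  obtain ⟨y, hy, hyZ⟩ : ∃ y ∈ W, y ∉ center G := by
    by_contra h
    push Not at h
    obtain ⟨w, hw⟩ := S.ex_mn
    have hle : (Q : Subgroup G) ≤ cent w := fun v hv => center_le_cent w (h v hv)
    refine Q.not_dvd_index (dvd_trans ?_ (index_dvd_of_le hle))
    show q ∣ cl w
    rw [hw]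
    exact hqn.mul_left m
  have hRn : cent x ≤ normalizer (R : Set G) := hsup ▸ sup_le le_normalizer
    (fun a ha => centralizer_le_normalizer _ (mem_centralizer_iff.2 fun r hr => hcom r hr a ha))
  have hH₁n : cent x ≤ normalizer (H₁ : Set G) := hsup ▸ sup_le
    (fun a ha => centralizer_le_normalizer _
      (mem_centralizer_iff.2 fun b hb => (hcom a ha b hb).symm)) le_normalizer
  have hy1 : y ∈ H₁ := by
    have hn' : (H₁.subgroupOf (cent x)).Normal := normal_subgroupOf_of_le_normalizer hH₁n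
    refine mem_of_normal (p := q) (C := H₁.subgroupOf (cent x)) (H := ⊤) le_top ?_
      (g := (⟨y, hWx hy⟩ : cent x)) ((isPEl_of_mem hW hy).imp fun _ h => Subtype.ext h) (mem_top _)
    obtain ⟨k, hk⟩ := IsPGroup.iff_card.1 hRp
    rw [pp, pp, card_top, Nat.card_congr (subgroupOfEquivOfLe hH₁).toEquiv, ← hsup,
      Coprime.card_sup_of_le_normalizer (hR.trans hH₁n) (disjoint_iff.1
        (disjoint_of_coprime_natCard (hk ▸ ((hp.out.coprime_iff_not_dvd).2 hpH₁).pow_left k))),
      hk, Nat.factorization_mul (pow_ne_zero _ hp.out.ne_zero) Nat.card_pos.ne', Finsupp.add_apply,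
      hp.out.factorization_pow, Finsupp.single_eq_of_ne hpq.symm, zero_add]
  have hxy : cent x ≤ cent y := hsup ▸ sup_le (fun a ha => mem_cent.2 (hcom a ha y hy1).symm)
    (fun a ha => mem_cent.2 (hcomm₁ y hy1 a ha))
  have hyeq : cent x = cent y := eq_of_le_of_cl hxy
    (by rw [hxm, S.cl_eq_m hyZ (hxm ▸ cl_dvd hxy)])
  have hym : cl y = m := S.cl_eq_m hyZ (hxm ▸ cl_dvd hxy)
  have hRc : ∀ v ∈ R, cent x ≤ cent v := by
    intro v hv
    refine hyeq ▸ relIndex_eq_one.1 ?_
    refine (S.relIndex_cases hym (hxy (hR hv))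
      ((isPEl_of_mem hW hy).coprime hq hp.out hpq.symm (isPEl_of_mem hRp hv))).resolve_right
        fun h => ?_
    rw [← hyeq] at h
    obtain ⟨k, hk⟩ := IsPGroup.iff_card.1 hRp
    have h1 : (cent v).relIndex (cent x) ∣ H₁.relIndex (cent x) :=
      relIndex_dvd_of_le_left (cent x) (fun a ha => mem_cent.2 (hcom v hv a ha))
    have h2 : H₁.relIndex (cent x) * Nat.card H₁ = Nat.card R * Nat.card H₁ := by
      rw [← Coprime.card_sup_of_le_normalizer (hR.trans hH₁n) (disjoint_iff.1
        (disjoint_of_coprime_natCard (hk ▸ ((hp.out.coprime_iff_not_dvd).2 hpH₁).pow_left k))),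
        hsup, mul_comm, relIndex, ← Nat.card_congr (subgroupOfEquivOfLe hH₁).toEquiv,
        card_mul_index]
    rw [Nat.eq_of_mul_eq_mul_right Nat.card_pos h2, hk, h] at h1
    obtain ⟨r, hr, hrn⟩ := Nat.exists_prime_and_dvd (show n ≠ 1 by have := S.hn; omega)
    have := (Nat.prime_dvd_prime_iff_eq hr hp.out).1 (hr.dvd_of_dvd_pow (hrn.trans h1))
    exact hp.out.not_dvd_one (S.hco.gcd_eq_one ▸ Nat.dvd_gcd hpm (this ▸ hrn))
  have hH₁c : ∀ a ∈ H₁, cent x ≤ cent a := fun a ha => hsup ▸ sup_le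
    (fun b hb => mem_cent.2 (hcom b hb a ha).symm) (fun b hb => mem_cent.2 (hcomm₁ a ha b hb))
  have habel : ∀ a ∈ cent x, cent x ≤ cent a := by
    intro a ha b hb
    have : cent x ≤ centralizer ({b} : Set G) := hsup ▸ sup_le
      (fun r hr => mem_centralizer_singleton_iff.2 (mem_cent.1 (hRc r hr hb)))
      (fun r hr => mem_centralizer_singleton_iff.2 (mem_cent.1 (hH₁c r hr hb)))
    exact mem_cent.2 (mem_centralizer_singleton_iff.1 (this ha))
  exact ⟨fun a ha b hb => mem_cent.1 (habel a ha hb), fun a ha haZ =>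
    (eq_of_le_of_cl (habel a ha)
      (by rw [hxm, S.cl_eq_m haZ (hxm ▸ cl_dvd (habel a ha))])).symm⟩

end Cfsg.Agent.ClassSize.TwoSteps
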