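import Cfsg.Agent.Lib.ClassSize.TwoSteps.Tools

/-!
# Class sizes `{1, m, mn}`: some element of `π(m)`-prime power order has class size `m`

Otherwise every class of size `m` would contain an element `x` whose class generates an abelian
normal subgroup `V`; comparing the Sylow subgroups of the various `C(V)` gives a contradiction.
-/

namespace Cfsg.Agent.ClassSize.TwoSteps

open Subgroup Cfsg.Agent.ClassSize.CoprimeTop
open scoped commutatorElement

variable {G : Type*} [Group G] [Finite G] {p q m n : ℕ}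

/-- All noncentral elements of `π(m)`-prime power order have class size `mn`. -/
def AllTypeTwo (G : Type*) [Group G] (m n : ℕ) : Prop :=
  ∀ r : ℕ, r.Prime → r ∣ m → ∀ g : G, IsPEl r g → g ∉ center G → cl g = m * n

variable (S : Hyp G m n) (hB : AllTypeTwo G m n)

include S hB

omit [Finite G] in
theorem not_dvd_of_type_one [Finite G] {x : G} (hq : q.Prime) (hx : IsPEl q x) (hxm : cl x = m) :
    ¬ q ∣ m := fun h => by
  have h1 := hB q hq h x hx (S.notMem_center_of_m hxm)
  have := S.lt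
  omega

/-- An element `v` of type 2 in the centraliser of an element `x` of type 1. -/
theorem exists_type_two_mem {x : G} [hq : Fact q.Prime] (hx : IsPEl q x) (hxm : cl x = m)
    [hp : Fact p.Prime] (hpm : p ∣ m) :
    ∃ v, IsPEl p v ∧ v ∉ center G ∧ cent v ≤ cent x := by
  have hqm := not_dvd_of_type_one S hB hq.out hx hxm
  obtain ⟨v, hv, hvp, hvZ⟩ := S.exists_noncentral_mem_cent hpm (S.notMem_center_of_m hxm)
  exact ⟨v, hvp, hvZ, S.cent_le (hB p hp.out hpm v hvp hvZ) (mem_cent.1 hv)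
    (hx.coprime hq.out hp.out (fun e => hqm (e ▸ hpm)) hvp)⟩

theorem pp_center_lt_type_two {x : G} [hq : Fact q.Prime] (hx : IsPEl q x) (hxm : cl x = m)
    [hp : Fact p.Prime] (hpm : p ∣ m) {v : G} (hv : cl v = m * n) :
    pp q (center G) < pp q (cent v) := by
  obtain ⟨v', hvp, hvZ, hle⟩ := exists_type_two_mem S hB hx hxm hpm
  have h1 : pp q (cent v) = pp q (cent v') := by
    rw [pp, pp, card_cent_eq (hv.trans (hB p hp.out hpm v' hvp hvZ).symm)]
  rw [h1]
  exact pp_center_lt_of_mem (center_le_cent v') hx (cent_comm.1 (hle (self_mem_cent v')))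
    (S.notMem_center_of_m hxm)

/-- Centralisers of noncentral elements meet Sylow `p`-subgroups in subgroups of index `p`. -/
theorem sylow_card_eq {x : G} [hq : Fact q.Prime] (hx : IsPEl q x) (hxm : cl x = m)
    [hp : Fact p.Prime] (hpm : p ∣ m) (P : Sylow p G) {g : G} (hg : g ∉ center G) :
    Nat.card (P : Subgroup G) = pp p (cent g) * p := by
  have hqm := not_dvd_of_type_one S hB hq.out hx hxm
  have hpq : p ≠ q := fun e => hqm (e ▸ hpm)
  obtain ⟨u, hu, huZ, hup, hcom⟩ := exists_central_mod S hpm P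
  have hup' : IsPEl p u := isPEl_of_mem P.isPGroup' hu
  have hu2 := hB p hp.out hpm u hup' huZ
  rw [S.pp_cent_eq hpm hg huZ]
  have hPE : (P : Subgroup G) ≤ normalizer (cent u : Set G) :=
    fun g hg => mem_normalizer_cent (hcom g hg)
  have hUc := card_inf_of_le_normalizer P hPE
  obtain ⟨T, hTE, hTq, hTC, hTc, hTall⟩ := exists_qpart (q := q) (E := cent u) fun s hs hsq =>
    mem_centralizer_iff.2 fun e he => (mem_cent.1 (S.cent_le hu2 (mem_cent.1 hs).symm
      (hsq.coprime hq.out hp.out hpq.symm hup') he)).symm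
  rw [← hUc]
  refine card_eq_mul_of_semiregular (S := T) inf_le_left ?_ ?_ ?_ ?_ ?_ ?_ ?_ ?_ ?_
  · exact le_inf le_normalizer hPE |>.trans (inf_normalizer_le_normalizer_inf)
  · exact fun a ha b hb => ⟨(P : Subgroup G).mul_mem ((P : Subgroup G).mul_mem
      ((P : Subgroup G).mul_mem ha hb) (inv_mem ha)) (inv_mem hb),
      mem_cent_of_central_mod (hcom a ha) (hcom b hb)⟩
  · exact fun a ha => ⟨pow_mem ha p, pow_mem_cent_of_central_mod (hcom a ha) hup⟩
  · intro h
    exact absurd ((congrArg (fun X : Subgroup G => Nat.card X) h).symm.trans hUc)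
      (ne_of_gt (S.pp_cent_lt hpm huZ P))
  · intro g hg
    have : ∀ a ∈ (P : Subgroup G), ∀ t ∈ T, a * t * a⁻¹ ∈ T := by
      intro a ha t ht
      refine hTall _ ((mem_normalizer_iff.1 (hPE ha) t).1 (hTE ht)) ?_
      obtain ⟨k, hk⟩ := isPEl_of_mem hTq ht
      exact ⟨k, by rw [conj_pow, hk, mul_one, mul_inv_cancel]⟩
    refine mem_normalizer_iff.2 fun t => ⟨this g hg t, fun ht => ?_⟩
    have h2 := this g⁻¹ (inv_mem hg) _ ht
    simpa [mul_assoc] using h2
  · rw [sylow_card, hTc, pp]
    exact ((Nat.coprime_primes hp.out hq.out).2 hpq).pow _ _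
  · exact fun a ha => mem_centralizer_iff.2 fun t ht =>
      (mem_centralizer_iff.1 (hTC ht) a ha.2).symm
  · rintro a ha haU s ⟨hsT, hsa⟩
    by_contra hsZ
    have hUs : (P : Subgroup G) ⊓ cent u ≤ (P : Subgroup G) ⊓ cent s := fun b hb =>
      ⟨hb.1, mem_cent.2 (mem_centralizer_iff.1 (hTC hsT) b hb.2).symm⟩
    have heq : (P : Subgroup G) ⊓ cent u = (P : Subgroup G) ⊓ cent s := by
      refine eq_of_le_of_card_ge hUs ?_
      rw [hUc, S.pp_cent_eq hpm huZ hsZ]
      exact card_le_pp inf_le_right (P.isPGroup'.to_le inf_le_left)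
    exact haU (heq.ge ⟨ha, mem_cent.2 (mem_centralizer_singleton_iff.1 hsa)⟩)
  · intro hT
    exact absurd (card_le_pp hT hTq)
      (not_le.2 (hTc ▸ pp_center_lt_type_two S hB hx hxm hpm hu2))

/-- A type 1 element generates an abelian normal subgroup whose centraliser is big. -/
theorem exists_normal_abelian {x : G} [hq : Fact q.Prime] (hx : IsPEl q x) (hxm : cl x = m) :
    ∃ V : Subgroup G, V.Normal ∧ x ∈ V ∧ IsPGroup q V ∧ V ≤ centralizer (V : Set G) ∧
      ∀ r : ℕ, r.Prime → r ∣ m → ∀ g : G, g ∉ center G →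
        pp r (cent g) ≤ pp r (centralizer (V : Set G)) := by
  classical
  have hqm := not_dvd_of_type_one S hB hq.out hx hxm
  obtain ⟨p, hp, hpm⟩ := Nat.exists_prime_and_dvd (show m ≠ 1 by have := S.hm; omega)
  have := Fact.mk hp
  obtain ⟨u, hup, huZ, hux⟩ := exists_type_two_mem S hB hx hxm hpm
  have hu2 := hB p hp hpm u hup huZ
  set E := cent u with hEdef
  obtain ⟨T, hTE, hTq, hTC, -, hTall⟩ := exists_qpart (q := q) (E := E) fun s hs hsq =>
    mem_centralizer_iff.2 fun e he => (mem_cent.1 (S.cent_le hu2 (mem_cent.1 hs).symm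
      (hsq.coprime hq.out hp (fun e => hqm (e ▸ hpm)) hup) he)).symm
  have hxT : x ∈ T := hTall x (cent_comm.1 (hux (self_mem_cent u))) hx
  set N := normalizer (T : Set G) with hNdef
  -- `N` contains a Sylow `r`-subgroup of `G` for every `r ∣ m`
  have hN : ∀ r : ℕ, r.Prime → r ∣ m → r ^ (Nat.card G).factorization r ∣ Nat.card N := by
    intro r hr hrm
    have := Fact.mk hr
    obtain ⟨W, hWE, hW, hWc⟩ := exists_pp_subgroup r E
    obtain ⟨w, hw, hwE⟩ : ∃ w ∈ W, cent w ≤ E := by
      by_cases hrp : r = p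
      · subst hrp
        have hWn : W ≤ normalizer (zpowers u : Set G) := fun w hw =>
          centralizer_le_normalizer _ (mem_centralizer_iff.2 fun y hy => by
            obtain ⟨i, rfl⟩ := mem_zpowers_iff.1 hy
            exact ((show Commute u w from mem_cent.1 (hWE hw)).zpow_left i).eq)
        have hp' : IsPGroup r ↥(W ⊔ zpowers u) :=
          hW.to_sup_of_normal_right' hup.isPGroup_zpowers hWn
        exact ⟨u, (eq_of_le_of_card_ge le_sup_left (hWc ▸ card_le_pp
          (sup_le hWE (zpowers_le.2 (self_mem_cent u))) hp')).ge (mem_sup_right (mem_zpowers u)),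
          le_rfl⟩
      · obtain ⟨w, hw, hwZ⟩ := exists_notMem_center hW (by rw [hWc]; exact S.pp_center_lt hrm huZ)
        exact ⟨w, hw, (S.cent_eq (hB r hr hrm w (isPEl_of_mem hW hw) hwZ) hu2
          (mem_cent.1 (hWE hw)).symm ((isPEl_of_mem hW hw).coprime hr hp hrp hup)).le⟩
    obtain ⟨P, hP⟩ := hW.exists_le_sylow
    have hPc := sylow_card_eq S hB hx hxm hrm P huZ
    rw [← hEdef, ← hWc] at hPc
    have hWn : (P : Subgroup G) ≤ normalizer (W : Set G) := by
      have hlt : W < (P : Subgroup G) ⊓ normalizer (W : Set G) := by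
        refine lt_of_le_of_ne (le_inf hP le_normalizer) fun h => ?_
        have hnil : Group.IsNilpotent (P : Subgroup G) := P.isPGroup'.isNilpotent
        have hlt : W.subgroupOf P < ⊤ := lt_top_iff_ne_top.2 fun ht => by
          have := le_antisymm hP (subgroupOf_eq_top.1 ht)
          rw [← this] at hPc
          exact absurd hPc (ne_of_lt (lt_mul_of_one_lt_right Nat.card_pos hr.one_lt))
        obtain ⟨g, hgN, hgW⟩ :=
          SetLike.exists_of_lt (Group.normalizerCondition_of_isNilpotent _ hlt)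
        refine hgW (h.ge ⟨g.2, ?_⟩)
        refine mem_normalizer_iff.2 fun y => ⟨fun hy => (mem_normalizer_iff.1 hgN ⟨y, hP hy⟩).1 hy,
          fun hy => ?_⟩
        have hyP : y ∈ (P : Subgroup G) := by
          have := (P : Subgroup G).mul_mem ((P : Subgroup G).mul_mem
            ((P : Subgroup G).inv_mem g.2) (hP hy)) g.2
          simpa [mul_assoc] using this
        exact (mem_normalizer_iff.1 hgN ⟨y, hyP⟩).2 hy
      refine fun g hg => ?_
      have hP' : (P : Subgroup G) ⊓ normalizer (W : Set G) = P := by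
        refine eq_of_le_of_card_ge inf_le_left ?_
        obtain ⟨i, hi⟩ := IsPGroup.iff_card.1 hW
        obtain ⟨j, hj⟩ := IsPGroup.iff_card.1 (P.isPGroup'.to_le
          (inf_le_left : (P : Subgroup G) ⊓ normalizer (W : Set G) ≤ P))
        have hij : i < j := (Nat.pow_lt_pow_iff_right hr.one_lt).1 (hi ▸ hj ▸
          lt_of_le_of_ne (Subgroup.card_le_of_le hlt.le)
            fun h => hlt.ne (eq_of_le_of_card_ge hlt.le h.ge))
        rw [hPc, hi, hj, ← pow_succ]
        exact Nat.pow_le_pow_right hr.pos hij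
      exact (hP'.ge hg).2
    rw [← sylow_card P]
    refine card_dvd_of_le fun g hg => ?_
    have key : ∀ g ∈ (P : Subgroup G), ∀ s ∈ T, g * s * g⁻¹ ∈ T := by
      intro g hg s hs
      obtain ⟨k, hk⟩ := isPEl_of_mem hTq hs
      refine hTall _ (hwE ?_) ⟨k, by rw [conj_pow, hk, mul_one, mul_inv_cancel]⟩
      refine mem_cent.2 ?_
      have h1 : g⁻¹ * w * g ∈ W := by
        simpa using (mem_normalizer_iff.1 (hWn (inv_mem hg)) w).1 hw
      have h2 : g⁻¹ * w * g * s = s * (g⁻¹ * w * g) := mem_centralizer_iff.1 (hTC hs) _ (hWE h1)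
      calc w * (g * s * g⁻¹) = g * (g⁻¹ * w * g * s) * g⁻¹ := by group
        _ = g * (s * (g⁻¹ * w * g)) * g⁻¹ := by rw [h2]
        _ = _ := by group
    refine mem_normalizer_iff.2 fun s => ⟨key g hg s, fun hs => ?_⟩
    simpa [mul_assoc] using key g⁻¹ (inv_mem hg) _ hs
  -- hence the class of `x` lies in `T`
  set H := cent x with hHdef
  have hk : H.relIndex N = H.index := by
    have h1 : (H.subgroupOf N).index * Nat.card ↥(H ⊓ N) = Nat.card N := by
      rw [← Nat.card_congr (subgroupOfEquivOfLe (inf_le_right : H ⊓ N ≤ N)).toEquiv,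
        inf_subgroupOf_right, mul_comm, card_mul_index]
    have hm0 : m ≠ 0 := by have := S.hm; omega
    have h2 : m ∣ H.relIndex N := by
      refine (Nat.factorization_le_iff_dvd hm0 ?_).1 fun r => ?_
      · exact index_ne_zero_of_finite
      by_cases hr : r.Prime ∧ r ∣ m
      · obtain ⟨hr, hrm⟩ := hr
        have := Fact.mk hr
        have h3 := congrArg (fun k : ℕ => k.factorization r) h1
        simp only [Nat.factorization_mul index_ne_zero_of_finite Nat.card_pos.ne',
          Finsupp.add_apply] at h3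
        have h4 := (hr.pow_dvd_iff_le_factorization Nat.card_pos.ne').1 (hN r hr hrm)
        have h5 := (Nat.factorization_le_iff_dvd Nat.card_pos.ne' Nat.card_pos.ne').2
          (card_dvd_of_le (inf_le_left : H ⊓ N ≤ H)) r
        have h6 := factorization_index (p := r) H
        rw [show H.index = m from hxm] at h6
        show _ ≤ ((H.subgroupOf N).index).factorization r
        omega
      · rw [(Nat.factorization_eq_zero_iff m r).2 (by tauto)]
        exact Nat.zero_le _
    have h3 : H.relIndex N ≤ H.index := by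
      rw [relIndex, index]
      exact Nat.card_le_card_of_injective
        (fun z : ↥N ⧸ H.subgroupOf N => (((z.out : N) : G) : G ⧸ H)) fun a b h => by
          rw [← QuotientGroup.out_eq' a, ← QuotientGroup.out_eq' b, QuotientGroup.eq]
          show (((a.out : N) : G))⁻¹ * ((b.out : N) : G) ∈ H
          exact QuotientGroup.eq.1 h
    refine le_antisymm h3 (le_trans (le_of_eq hxm) (Nat.le_of_dvd ?_ h2))
    exact Nat.pos_of_ne_zero index_ne_zero_of_finite
  have hprod : ∀ g : G, ∃ a ∈ N, ∃ b ∈ H, g = a * b := by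
    let f : ↥N ⧸ H.subgroupOf N → G ⧸ H := fun z => ((z.out : N) : G)
    have hf : Function.Injective f := fun a b h => by
      rw [← QuotientGroup.out_eq' a, ← QuotientGroup.out_eq' b, QuotientGroup.eq]
      show (((a.out : N) : G))⁻¹ * ((b.out : N) : G) ∈ H
      exact QuotientGroup.eq.1 h
    have hb := hf.bijective_of_nat_card_le (by rw [← index_eq_card, ← index_eq_card]; exact hk.ge)
    intro g
    obtain ⟨z, hz⟩ := hb.2 (g : G ⧸ H)
    exact ⟨(z.out : N), (z.out : N).2, ((z.out : N) : G)⁻¹ * g, QuotientGroup.eq.1 hz, by group⟩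
  refine ⟨normalClosure {x}, inferInstance, subset_normalClosure rfl, ?_⟩
  have hVT : normalClosure {x} ≤ T := by
    refine (closure_le _).2 fun y hy => ?_
    obtain ⟨z, hz, hy⟩ := Group.mem_conjugatesOfSet_iff.1 hy
    rw [Set.mem_singleton_iff] at hz
    obtain ⟨g, rfl⟩ := isConj_iff.1 (show IsConj x y from hz ▸ hy)
    obtain ⟨a, ha, b, hb, rfl⟩ := hprod g
    have h1 : b * x * b⁻¹ = x := by rw [← mem_cent.1 hb, mul_inv_cancel_right]
    rw [show a * b * x * (a * b)⁻¹ = a * (b * x * b⁻¹) * a⁻¹ by group, h1]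
    exact (mem_normalizer_iff.1 ha x).1 hxT
  have hEV : E ≤ centralizer ((normalClosure {x} : Subgroup G) : Set G) := fun e he =>
    mem_centralizer_iff.2 fun y hy => (mem_centralizer_iff.1 (hTC (hVT hy)) e he).symm
  refine ⟨hTq.to_le hVT, (hVT.trans hTE).trans hEV, fun r hr hrm g hg => ?_⟩
  have := Fact.mk hr
  exact (S.pp_cent_eq hrm hg huZ).le.trans (pp_mono hEV)

/-- Case B is impossible. -/
theorem false_of_allTypeTwo : False := by
  classical
  obtain ⟨q, hq, x, hx, hxm⟩ := S.exists_primary_type_one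
  have := Fact.mk hq
  have hqm := not_dvd_of_type_one S hB hq hx hxm
  obtain ⟨p, hp, hpm⟩ := Nat.exists_prime_and_dvd (show m ≠ 1 by have := S.hm; omega)
  have := Fact.mk hp
  have hpq : p ≠ q := fun e => hqm (e ▸ hpm)
  obtain ⟨V, hVn, hxV, hVq, hVab, hVC⟩ := exists_normal_abelian S hB hx hxm
  obtain ⟨P⟩ := (inferInstance : Nonempty (Sylow p G))
  have hxZ := S.notMem_center_of_m hxm
  have hCn : ∀ W : Subgroup G, W.Normal → (centralizer (W : Set G)).Normal := fun W hW => by
    infer_instance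
  have := hCn V hVn
  set C := centralizer (V : Set G)
  set U := (P : Subgroup G) ⊓ C
  -- `p`-elements centralising a noncentral element of such a `V` centralise `V`
  have hall : ∀ V' : Subgroup G, V'.Normal → (∀ g : G, g ∉ center G →
      pp p (cent g) ≤ pp p (centralizer (V' : Set G))) → ∀ t ∈ V', t ∉ center G →
      ∀ g, IsPEl p g → g * t = t * g → g ∈ centralizer (V' : Set G) := by
    intro V' hV' hle t ht htZ g hg hgt
    have := hCn V' hV'
    refine mem_of_normal (H := cent t) (fun e he => mem_cent.2 ?_) (hle t htZ) hg (mem_cent.2 hgt.symm)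
    exact mem_centralizer_iff.1 he t ht
  have hCle : ∀ V' : Subgroup G, ∀ z ∈ V', centralizer (V' : Set G) ≤ cent z := fun V' z hz e he =>
    mem_cent.2 (mem_centralizer_iff.1 he z hz)
  have hUcard : ∀ V' : Subgroup G, V'.Normal → (∀ g : G, g ∉ center G →
      pp p (cent g) ≤ pp p (centralizer (V' : Set G))) → ∀ z ∈ V', z ∉ center G →
      Nat.card ↥((P : Subgroup G) ⊓ centralizer (V' : Set G)) = pp p (cent z) := by
    intro V' hV' hle z hz hzZ
    have := hCn V' hV'
    rw [card_inf_normal]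
    exact le_antisymm (pp_mono (hCle V' z hz)) (hle z hzZ)
  have hVC' : ∀ g : G, g ∉ center G → pp p (cent g) ≤ pp p C := hVC p hp hpm
  have hU := hUcard V hVn hVC' x hxV hxZ
  obtain ⟨w, hwP, hwU⟩ := SetLike.exists_of_lt (lt_of_le_of_ne (inf_le_left : U ≤ P) fun h => by
    have := S.pp_cent_lt hpm hxZ P
    rw [← hU, show (P : Subgroup G) ⊓ centralizer (V : Set G) = P from h] at this
    exact lt_irrefl _ this)
  have hwp : IsPEl p w := isPEl_of_mem P.isPGroup' hwP
  have hwV : ∀ t ∈ V, w * t = t * w → t ∈ center G := fun t ht h => by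
    by_contra htZ
    exact hwU ⟨hwP, hall V hVn hVC' t ht htZ w hwp h⟩
  have hwZ : w ∉ center G := fun h => hxZ (hwV x hxV (mem_center_iff.1 h x).symm)
  have hw2 := hB p hp hpm w hwp hwZ
  obtain ⟨Y, hYw, hY, hYc⟩ := exists_pp_subgroup q (cent w)
  obtain ⟨y, hyY, hyZ⟩ := exists_notMem_center hY
    (by rw [hYc]; exact pp_center_lt_type_two S hB hx hxm hpm hw2)
  have hyq := isPEl_of_mem hY hyY
  have hwy : w * y = y * w := mem_cent.1 (hYw hyY)
  -- `v ∈ V` commuting with `y` modulo the centre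
  obtain ⟨v, hv, hvZ, hvy⟩ : ∃ v ∈ V, v ∉ center G ∧ ⁅v, y⁆ ∈ center G := by
    set f := QuotientGroup.mk' (center G)
    set Vb := V.map f
    have hVbn : Vb.Normal := hVn.map f (QuotientGroup.mk'_surjective _)
    have hX : IsPGroup q ↥(Vb ⊔ (zpowers y).map f) :=
      (hVq.map f).to_sup_of_normal_left (hyq.isPGroup_zpowers.map f)
    have hne : Vb.subgroupOf (Vb ⊔ (zpowers y).map f) ≠ ⊥ := by
      rw [Ne, subgroupOf_eq_bot]
      intro h
      have h1 : f x ∈ Vb := mem_map_of_mem f hxV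
      exact hxZ ((QuotientGroup.eq_one_iff x).1 ((disjoint_def.1 h) h1 (mem_sup_left h1)))
    obtain ⟨⟨z, hz⟩, hzc, hz1⟩ := (bot_or_exists_ne_one _).resolve_left
      (PGroup.inf_center_ne_bot hX _ hne)
    obtain ⟨v, hv, hvz⟩ := hzc.1
    have hvz' : f v = z := hvz
    refine ⟨v, hv, fun h => hz1 (Subtype.ext ?_), ?_⟩
    · show z = 1
      rw [← hvz']; exact (QuotientGroup.eq_one_iff v).2 h
    · refine (QuotientGroup.eq_one_iff _).1 (?_ : f ⁅v, y⁆ = 1)
      rw [map_commutatorElement, hvz', commutatorElement_eq_one_iff_mul_comm]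
      exact (congrArg Subtype.val (mem_center_iff.1 hzc.2
        ⟨f y, mem_sup_right (mem_map_of_mem f (mem_zpowers y))⟩)).symm
  -- `t = [v, w]` is noncentral and commutes with `y`
  set t := v⁻¹ * (w * v * w⁻¹) with htdef
  have ht : t ∈ V := V.mul_mem (V.inv_mem hv) (hVn.conj_mem v hv w)
  have htZ : t ∉ center G := by
    intro h
    refine hvZ (hwV v hv ?_)
    have h1 : w * v * w⁻¹ = t * v := by
      rw [← mem_center_iff.1 h v, htdef, mul_inv_cancel_left]
    obtain ⟨i, hi⟩ := hwp
    obtain ⟨j, hj⟩ := isPEl_of_mem hVq ht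
    have h2 := conj_pow_eq h h1 (p ^ i)
    rw [hi, inv_one, mul_one, one_mul, eq_comm, mul_eq_right] at h2
    have h3 : t = 1 := orderOf_eq_one_iff.1 (Nat.eq_one_of_dvd_coprimes
      (((Nat.coprime_primes hp hq).2 hpq).pow i j) (orderOf_dvd_of_pow_eq_one h2)
      (orderOf_dvd_of_pow_eq_one hj))
    rw [h3, one_mul, mul_inv_eq_iff_eq_mul] at h1
    exact h1
  have hty : t * y = y * t := by
    have hc := mem_center_iff.1 hvy
    have e1 : v * y = ⁅v, y⁆ * y * v := by group
    have e2 : (w * v * w⁻¹) * y = ⁅v, y⁆ * y * (w * v * w⁻¹) := by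
      have hy' : w⁻¹ * y = y * w⁻¹ := (Commute.inv_left (show Commute w y from hwy)).eq
      calc w * v * w⁻¹ * y = w * (v * y) * w⁻¹ := by rw [mul_assoc _ w⁻¹, hy']; group
        _ = (w * ⁅v, y⁆) * y * v * w⁻¹ := by rw [e1]; group
        _ = ⁅v, y⁆ * (w * y) * v * w⁻¹ := by rw [hc w]; simp [mul_assoc]
        _ = _ := by rw [hwy]; simp [mul_assoc]
    have e3 : v⁻¹ * (⁅v, y⁆ * y) = y * v⁻¹ := by
      rw [commutatorElement_def]; group
    calc t * y = v⁻¹ * ((w * v * w⁻¹) * y) := by rw [htdef, mul_assoc]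
      _ = v⁻¹ * (⁅v, y⁆ * y) * (w * v * w⁻¹) := by rw [e2]; simp [mul_assoc]
      _ = _ := by rw [e3, htdef]; simp [mul_assoc]
  rcases S.noncentral hyZ with hy1 | hy2
  swap
  · -- `y` of type 2
    have he := S.cent_eq hy2 hw2 hwy.symm (hyq.coprime hq hp hpq.symm hwp)
    exact htZ (hwV t ht (mem_cent.1 (he.le (mem_cent.2 hty.symm))))
  obtain ⟨V', hV'n, hyV', hV'q, -, hV'C⟩ := exists_normal_abelian S hB hyq hy1
  have hV'C' := hV'C p hp hpm
  have := hCn V' hV'n
  set U' := (P : Subgroup G) ⊓ centralizer (V' : Set G)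
  have hU' := hUcard V' hV'n hV'C' y hyV' hyZ
  have hwU' : w ∈ U' := ⟨hwP, hall V' hV'n hV'C' y hyV' hyZ w hwp hwy⟩
  have hcardeq : Nat.card U = Nat.card U' := by
    rw [hU, hU']; exact S.pp_cent_eq hpm hxZ hyZ
  have hne : ¬ U ≤ U' := fun h => hwU ((eq_of_le_of_card_ge h hcardeq.ge).ge hwU')
  have hVV' : ∀ s ∈ V, s ∈ V' → s ∈ center G := fun s hs hs' => by
    by_contra hsZ
    refine hne fun b hb => ⟨hb.1, hall V' hV'n hV'C' s hs' hsZ b (isPEl_of_mem P.isPGroup' hb.1) ?_⟩
    exact (mem_centralizer_iff.1 hb.2 s hs).symm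
  set s := t * y with hsdef
  have hsq : IsPEl q s := by
    obtain ⟨i, hi⟩ := isPEl_of_mem hVq ht
    obtain ⟨j, hj⟩ := hyq
    refine ⟨i + j, ?_⟩
    rw [hsdef, (show Commute t y from hty).mul_pow, pow_add, pow_mul, hi, one_pow, one_mul,
      mul_comm, pow_mul, hj, one_pow]
  have hsZ : s ∉ center G := fun h => by
    refine htZ (hwV t ht ?_)
    have h1 := mem_center_iff.1 h w
    have h2 : w * t * y = t * w * y := by rw [mul_assoc w, mul_assoc t w, hwy, ← mul_assoc t, ← hsdef]; exact h1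
    exact mul_right_cancel h2
  have hsmall : ∀ T : Subgroup G, T ≤ U → T ≤ U' → pp p (cent s) ≤ Nat.card T → False := by
    intro T h1 h2 h3
    rw [S.pp_cent_eq hpm hsZ hxZ, ← hU] at h3
    exact hne ((eq_of_le_of_card_ge h1 h3).ge.trans h2)
  rcases S.noncentral hsZ with hs1 | hs2
  · obtain ⟨V'', hV''n, hsV'', -, -, hV''C⟩ := exists_normal_abelian S hB hsq hs1
    have hU'' := hUcard V'' hV''n (hV''C p hp hpm) s hsV'' hsZ
    refine hsmall ((P : Subgroup G) ⊓ centralizer (V'' : Set G)) ?_ ?_ hU''.ge <;>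
    · intro r hr
      have hrs : r * s = s * r := (mem_centralizer_iff.1 hr.2 s hsV'').symm
      set a := t⁻¹ * (r * t * r⁻¹) with hadef
      have ha : a ∈ V := V.mul_mem (V.inv_mem ht) (hVn.conj_mem t ht r)
      have haeq : a = y * (r * y⁻¹ * r⁻¹) := by
        have h1 : (r * t * r⁻¹) * (r * y * r⁻¹) = t * y := by
          rw [show r * t * r⁻¹ * (r * y * r⁻¹) = r * (t * y) * r⁻¹ by group, hrs,
            mul_inv_cancel_right]
        rw [hadef, show r * t * r⁻¹ = (r * t * r⁻¹) * (r * y * r⁻¹) * (r * y⁻¹ * r⁻¹) by group, h1]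
        group
      have haZ : a ∈ center G := hVV' a ha
        (haeq ▸ V'.mul_mem hyV' (hV'n.conj_mem _ (V'.inv_mem hyV') r))
      have hrp : IsPEl p r := isPEl_of_mem P.isPGroup' hr.1
      have h1 : r * t * r⁻¹ = a * t := by
        rw [← mem_center_iff.1 haZ t, hadef, mul_inv_cancel_left]
      obtain ⟨i, hi⟩ := hrp
      obtain ⟨j, hj⟩ := isPEl_of_mem hVq ha
      have h2 := conj_pow_eq haZ h1 (p ^ i)
      rw [hi, inv_one, mul_one, one_mul, eq_comm, mul_eq_right] at h2
      have h3 : a = 1 := orderOf_eq_one_iff.1 (Nat.eq_one_of_dvd_coprimes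
        (((Nat.coprime_primes hp hq).2 hpq).pow i j) (orderOf_dvd_of_pow_eq_one h2)
        (orderOf_dvd_of_pow_eq_one hj))
      rw [h3, one_mul, mul_inv_eq_iff_eq_mul] at h1
      have hry : r * y = y * r := by
        refine mul_left_cancel (a := t) ?_
        rw [← mul_assoc, ← h1, mul_assoc, ← hsdef, hrs, hsdef, mul_assoc]
      first
        | exact ⟨hr.1, hall V hVn hVC' t ht htZ r ⟨i, hi⟩ h1⟩
        | exact ⟨hr.1, hall V' hV'n hV'C' y hyV' hyZ r ⟨i, hi⟩ hry⟩
  · obtain ⟨W, hW, hWp, hWc⟩ := exists_pp_subgroup p (cent s)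
    obtain ⟨e, he, heZ⟩ := exists_notMem_center hWp (by rw [hWc]; exact S.pp_center_lt hpm hsZ)
    have hep := isPEl_of_mem hWp he
    have heq := S.cent_eq (hB p hp hpm e hep heZ) hs2 (mem_cent.1 (hW he)).symm
      (hep.coprime hp hq hpq hsq)
    have hin : ∀ z, IsPEl q z → z ∈ cent s → ∀ b ∈ cent s, b * z = z * b := by
      intro z hz hzs b hb
      rw [← heq] at hzs hb
      exact (mem_cent.1 (S.cent_le (hB p hp hpm e hep heZ) (mem_cent.1 hzs).symm
        (hz.coprime hq hp hpq.symm hep) hb)).symm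
    have htq := isPEl_of_mem hVq ht
    have hts : t ∈ cent s := mem_cent.2 (by rw [hsdef, mul_assoc, ← hty])
    have hys : y ∈ cent s := mem_cent.2 (by rw [hsdef, ← mul_assoc, ← hty])
    -- a Sylow `p`-subgroup of the normal subgroup `C(V) ∩ C(V')`
    set D := C ⊓ centralizer (V' : Set G)
    have hWD : W ≤ D := fun b hb =>
      ⟨hall V hVn hVC' t ht htZ b (isPEl_of_mem hWp hb) (hin t htq hts b (hW hb)),
        hall V' hV'n hV'C' y hyV' hyZ b (isPEl_of_mem hWp hb) (hin y hyq hys b (hW hb))⟩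
    refine hsmall ((P : Subgroup G) ⊓ D) (inf_le_inf_left _ inf_le_left)
      (inf_le_inf_left _ inf_le_right) ?_
    rw [card_inf_normal, ← hWc]
    exact card_le_pp hWD hWp

end Cfsg.Agent.ClassSize.TwoSteps
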