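import Cfsg.Agent.Lib.ClassSize.TwoSteps.Main

/-!
# Class sizes `{1, m, mn}` with `(m, n) = 1`: the structure of the group
-/

namespace Cfsg.Agent.ClassSize.TwoSteps

open Subgroup Cfsg.Agent.ClassSize.CoprimeTop
open scoped commutatorElement

variable {G : Type*} [Group G] [Finite G] {p m n : ℕ} {H : Subgroup G}

theorem Core.cl_of_notMem (C : Core G m H) (S : Hyp G m n) [H.Normal] {w : G} (hw : w ∉ H) :
    cl w = m * n := by
  refine (S.noncentral fun h => hw (C.cen h)).resolve_left fun h => ?_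
  obtain ⟨g, hg⟩ := C.conj_mem_of_type_one S h
  exact hw (by simpa [mul_assoc] using (inferInstance : H.Normal).conj_mem _ hg g⁻¹)

theorem Core.mem_iff (C : Core G m H) (S : Hyp G m n) [H.Normal] {g : G} :
    g ∈ H ↔ cl g = 1 ∨ cl g = m := by
  constructor
  · intro hg
    by_cases hZ : g ∈ center G
    · exact Or.inl (cl_eq_one.2 hZ)
    · exact Or.inr (C.cl_eq hg hZ)
  · intro h
    by_contra hg
    rw [C.cl_of_notMem S hg] at h
    have := S.hm
    have := S.lt
    omega

theorem Core.card_cent (C : Core G p H) [hp : Fact p.Prime] [H.Normal] {w : G} (hw : w ∉ H) :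
    Nat.card (cent w) = p * Nat.card (center G) := by
  have hinf : H ⊓ cent w = center G := by
    rw [C.inf_cent_eq hw le_rfl, inf_eq_right.2 C.cen]
  have hsup : cent w ⊔ H = ⊤ := by
    rw [← index_eq_one]
    refine ((Nat.dvd_prime hp.out).1 (C.idx ▸ index_dvd_of_le le_sup_right)).resolve_right fun e => ?_
    have h1 : H = cent w ⊔ H := eq_of_le_of_card_ge le_sup_right (le_of_eq (by
      have e1 := card_mul_index H
      have e2 := card_mul_index (cent w ⊔ H)
      rw [← e1, C.idx, e] at e2
      exact Nat.eq_of_mul_eq_mul_right hp.out.pos e2))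
    exact hw (h1.ge (mem_sup_left (self_mem_cent w)))
  have h1 : H.relIndex (cent w) = p := by
    rw [← Subgroup.relIndex_sup_right (H := cent w) (K := H), hsup, relIndex_top_right, C.idx]
  have h2 := card_mul_index (H.subgroupOf (cent w))
  rw [← inf_subgroupOf_right, Nat.card_congr (subgroupOfEquivOfLe
    (inf_le_right : H ⊓ cent w ≤ cent w)).toEquiv, hinf] at h2
  rw [← h2, mul_comm]
  congr 1
  rw [← hinf]
  exact (inf_relIndex_right H (cent w)).trans h1

theorem Core.card_core (C : Core G p H) (S : Hyp G p n) [hp : Fact p.Prime] [H.Normal] :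
    Nat.card H = p * n * Nat.card (center G) := by
  obtain ⟨w, hw⟩ := S.ex_mn
  have hwH : w ∉ H := fun h => by
    have := S.hm
    have := S.lt
    rcases (C.mem_iff S).1 h with e | e <;> omega
  have h1 := card_mul_index (cent w)
  rw [show (cent w).index = p * n from hw, C.card_cent hwH, ← card_mul_index H, C.idx] at h1
  have h2 : p * (p * n * Nat.card (center G)) = p * Nat.card H := by
    rw [mul_comm p (Nat.card H), ← h1]; ring
  exact (Nat.eq_of_mul_eq_mul_left hp.out.pos h2).symm

theorem Core.cpart_center_card (C : Core G p H) [hp : Fact p.Prime] :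
    Nat.card (center G) = pp p (center G) * Nat.card ↥(cpart C.hab p ⊓ center G) := by
  have hA : ∀ a ∈ center G, ∀ b ∈ center G, a * b = b * a := fun a _ b hb => mem_center_iff.1 hb a
  have h1 : cpart hA p = cpart C.hab p ⊓ center G := by
    ext g
    exact ⟨fun h => ⟨⟨C.cen h.1, h.2⟩, h.1⟩, fun h => ⟨h.2, h.1.2⟩⟩
  rw [← h1]
  exact card_eq_part_mul_cpart hA

theorem Core.card_cpart (C : Core G p H) (S : Hyp G p n) [hp : Fact p.Prime] [H.Normal] :
    Nat.card (cpart C.hab p) = n * Nat.card ↥(cpart C.hab p ⊓ center G) := by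
  have h1 := card_eq_part_mul_cpart C.hab (r := p)
  rw [C.card_core S, C.pp_eq_mul S dvd_rfl, C.cpart_center_card] at h1
  have h2 : p * pp p (center G) * (n * Nat.card ↥(cpart C.hab p ⊓ center G)) =
      p * pp p (center G) * Nat.card (cpart C.hab p) := by rw [← h1]; ring
  exact (Nat.eq_of_mul_eq_mul_left (mul_pos hp.out.pos (pow_pos hp.out.pos _)) h2).symm

theorem Core.sylow_card_eq (C : Core G p H) (S : Hyp G p n) [hp : Fact p.Prime] (P : Sylow p G) :
    Nat.card (P : Subgroup G) = pp p H * p := by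
  obtain ⟨a, ha, haZ⟩ := C.ex
  have h := S.pp_cent dvd_rfl haZ
  rw [C.hmax a ha haZ, hp.out.factorization_self, pow_one] at h
  rw [sylow_card, h]

theorem Core.exists_mem_sylow (C : Core G p H) (S : Hyp G p n) [hp : Fact p.Prime] (P : Sylow p G) :
    ∃ w ∈ (P : Subgroup G), w ∉ H := by
  by_contra h
  push Not at h
  have h1 := card_le_pp (show (P : Subgroup G) ≤ H from h) P.isPGroup'
  rw [C.sylow_card_eq S P] at h1
  exact absurd h1 (not_le.2 (lt_mul_of_one_lt_right (pow_pos hp.out.pos _) hp.out.one_lt))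

theorem Core.dvd_sub_one (C : Core G p H) (S : Hyp G p n) [hp : Fact p.Prime] [H.Normal] :
    p ∣ n - 1 := by
  obtain ⟨P⟩ := (inferInstance : Nonempty (Sylow p G))
  obtain ⟨w, hwP, hw⟩ := C.exists_mem_sylow S P
  have h1 := card_modEq_cent (S := cpart C.hab p) (isPEl_of_mem P.isPGroup' hwP)
    (normalizer_le_cpart C.hab ((normalizer_eq_top (H := H)).ge (mem_top w)))
  rw [C.inf_cent_eq hw (cpart_le C.hab), C.card_cpart S] at h1
  have hco : p.Coprime (Nat.card ↥(cpart C.hab p ⊓ center G)) :=
    ((hp.out.coprime_iff_not_dvd).2 (not_dvd_card_cpart C.hab)).coprime_dvd_right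
      (card_dvd_of_le inf_le_left)
  have h2 : n ≡ 1 [MOD p] := Nat.ModEq.cancel_right_of_coprime hco (by rw [one_mul]; exact h1)
  exact (Nat.modEq_iff_dvd' (by have := S.hn; omega)).1 h2.symm

theorem Core.exists_complement (C : Core G p H) (S : Hyp G p n) [hp : Fact p.Prime] [H.Normal] :
    ∃ N : Subgroup G, N.Normal ∧ (Nat.card N).Coprime p ∧ ∃ a : ℕ, N.index = p ^ a := by
  have hN : (cpart C.hab p).Normal := normalizer_eq_top_iff.1 (top_le_iff.1
    ((normalizer_eq_top (H := H)).ge.trans (normalizer_le_cpart C.hab)))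
  refine ⟨cpart C.hab p, hN, ((hp.out.coprime_iff_not_dvd).2 (not_dvd_card_cpart C.hab)).symm,
    (Nat.card H).factorization p + 1, Nat.eq_of_mul_eq_mul_left (Nat.card_pos (α := cpart C.hab p)) ?_⟩
  have h1 := card_eq_part_mul_cpart C.hab (r := p)
  have h2 := card_mul_index H
  rw [C.idx, pp] at *
  rw [card_mul_index, ← h2]
  conv_lhs => rw [h1]
  ring

theorem Core.card_commutator (C : Core G p H) (S : Hyp G p n) [hp : Fact p.Prime] [H.Normal]
    (P : Sylow p G) : Nat.card (commutator (P : Subgroup G)) = p := by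
  classical
  set R := part C.hab p with hRdef
  have hPn : (P : Subgroup G) ≤ normalizer (H : Set G) := normalizer_eq_top (H := H) ▸ le_top
  have hinf : (P : Subgroup G) ⊓ H = R := eq_of_le_of_card_ge
    (fun g hg => ⟨hg.2, isPEl_of_mem P.isPGroup' hg.1⟩)
    (le_of_eq (by rw [hRdef, card_part, card_inf_normal]))
  have hRP : R ≤ (P : Subgroup G) := hinf ▸ inf_le_left
  obtain ⟨w, hwP, hw⟩ := C.exists_mem_sylow S P
  obtain ⟨a, ha, haZ⟩ := C.exists_mem_part S (dvd_refl p)
  set Z₀ := R ⊓ center G with hZ₀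
  have hz : Nat.card Z₀ = pp p (center G) := C.card_part_inf_center
  have hRc : Nat.card R = p * pp p (center G) := by
    rw [card_part, C.pp_eq_mul S dvd_rfl]
  have hRsup : R ≤ Z₀ ⊔ zpowers a := by
    have h1 : Z₀ < Z₀ ⊔ zpowers a := lt_of_le_of_ne le_sup_left fun h =>
      haZ (h.ge (mem_sup_right (mem_zpowers a))).2
    have h2 : Z₀ ⊔ zpowers a ≤ R := sup_le inf_le_left (zpowers_le.2 ha)
    refine (eq_of_le_of_card_ge h2 ?_).ge
    rw [hRc]
    obtain ⟨i, hi⟩ := IsPGroup.iff_card.1 ((isPGroup_part C.hab).to_le h2)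
    have h3 : Nat.card Z₀ < Nat.card ↥(Z₀ ⊔ zpowers a) := lt_of_le_of_ne
      (Subgroup.card_le_of_le h1.le) fun h => h1.ne (eq_of_le_of_card_ge h1.le h.ge)
    rw [hz, hi, pp] at h3
    rw [hi, pp, ← pow_succ']
    exact Nat.pow_le_pow_right hp.out.pos ((Nat.pow_lt_pow_iff_right hp.out.one_lt).1 h3)
  have hPsup : (P : Subgroup G) ≤ Z₀ ⊔ zpowers a ⊔ zpowers w := by
    have hle : Z₀ ⊔ zpowers a ⊔ zpowers w ≤ P :=
      sup_le (sup_le (inf_le_left.trans hRP) (zpowers_le.2 (hRP ha))) (zpowers_le.2 hwP)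
    have h1 : R < Z₀ ⊔ zpowers a ⊔ zpowers w := lt_of_le_of_ne (hRsup.trans le_sup_left) fun h =>
      hw (h.ge (mem_sup_right (mem_zpowers w))).1
    refine (eq_of_le_of_card_ge hle ?_).ge
    obtain ⟨i, hi⟩ := IsPGroup.iff_card.1 (P.isPGroup'.to_le hle)
    have h3 : Nat.card R < Nat.card ↥(Z₀ ⊔ zpowers a ⊔ zpowers w) := lt_of_le_of_ne
      (Subgroup.card_le_of_le h1.le) fun h => h1.ne (eq_of_le_of_card_ge h1.le h.ge)
    rw [card_part, hi, pp] at h3
    rw [C.sylow_card_eq S P, hi, pp, ← pow_succ]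
    exact Nat.pow_le_pow_right hp.out.pos ((Nat.pow_lt_pow_iff_right hp.out.one_lt).1 h3)
  -- `a ^ p` and `[w, a]` are central
  have hap : a ^ p ∈ center G := by
    have hn : (Z₀.subgroupOf R).Normal := normal_subgroupOf_of_le_normalizer fun g hg =>
      centralizer_le_normalizer _ (mem_centralizer_iff.2 fun b hb => C.hab b hb.1.1 g hg.1)
    have h2 : (Z₀.subgroupOf R).index = p := by
      have h3 := card_mul_index (Z₀.subgroupOf R)
      rw [Nat.card_congr (subgroupOfEquivOfLe (inf_le_left : Z₀ ≤ R)).toEquiv, hz, hRc,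
        mul_comm p] at h3
      exact Nat.eq_of_mul_eq_mul_left (pow_pos hp.out.pos _) h3
    have h4 := PGroup.pow_mem_of_index_eq (Z₀.subgroupOf R) h2 (⟨a, ha⟩ : R)
    exact (mem_subgroupOf.1 h4).2
  have hRZ : ∀ g ∈ (P : Subgroup G), ⁅g, a⁆ ∈ center G := by
    intro g hg
    -- `R / Z₀` has order `p` and is normal in `P`
    have hRn : (P : Subgroup G) ≤ normalizer (R : Set G) := hPn.trans (normalizer_le_part C.hab)
    set f := QuotientGroup.mk' (center G)
    have hn : ((R.map f).subgroupOf ((P : Subgroup G).map f)).Normal :=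
      normal_subgroupOf_of_le_normalizer ((map_mono hRn).trans (le_normalizer_map f))
    have hc : Nat.card ((R.map f).subgroupOf ((P : Subgroup G).map f)) = p := by
      rw [Nat.card_congr (subgroupOfEquivOfLe (map_mono hRP)).toEquiv, ← relIndex_ker,
        QuotientGroup.ker_mk']
      have h3 := card_mul_index ((center G).subgroupOf R)
      rw [← inf_subgroupOf_left, Nat.card_congr (subgroupOfEquivOfLe
        (inf_le_left : R ⊓ center G ≤ R)).toEquiv, hz, hRc, mul_comm p] at h3
      rw [relIndex, ← inf_subgroupOf_left]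
      exact Nat.eq_of_mul_eq_mul_left (pow_pos hp.out.pos _) h3
    have h5 := PGroup.le_center_of_card_eq (P.isPGroup'.map f) _ hc
      (x := ⟨f a, mem_map_of_mem f (hRP ha)⟩) (mem_subgroupOf.2 (mem_map_of_mem f ha))
    refine (QuotientGroup.eq_one_iff _).1 (?_ : f ⁅g, a⁆ = 1)
    rw [map_commutatorElement, commutatorElement_eq_one_iff_mul_comm]
    exact congrArg Subtype.val (mem_center_iff.1 h5 ⟨f g, mem_map_of_mem f hg⟩)
  set c := ⁅w, a⁆ with hcdef
  have hc : c ∈ center G := hRZ w hwP
  have hc1 : c ≠ 1 := fun h => haZ (C.mem_center_of_commute hw ha.1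
    (commutatorElement_eq_one_iff_mul_comm.1 h).symm)
  have hco : orderOf c = p := orderOf_eq_prime (pow_commutator_eq_one hc hap) hc1
  have hMn : (zpowers c).Normal := ⟨fun x hx g => by
    rw [mem_center_iff.1 (zpowers_le.2 hc hx) g, mul_inv_cancel_right]; exact hx⟩
  -- in `G / ⟨c⟩` the image of `P` is abelian
  set f := QuotientGroup.mk' (zpowers c)
  have hgen : ∀ x, x ∈ (Z₀ : Set G) ∪ {a, w} → ∀ y, y ∈ (Z₀ : Set G) ∪ {a, w} →
      f x * f y = f y * f x := by
    have key : f w * f a = f a * f w := by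
      rw [← commutatorElement_eq_one_iff_mul_comm, ← map_commutatorElement]
      exact (QuotientGroup.eq_one_iff _).2 (mem_zpowers c)
    have hzc : ∀ x ∈ Z₀, ∀ y, f x * f y = f y * f x := fun x hx y => by
      rw [← map_mul, ← map_mul, mem_center_iff.1 hx.2 y]
    rintro x (hx | rfl | rfl) y (hy | rfl | rfl)
    all_goals first | exact hzc _ hx _ | exact (hzc _ hy _).symm | rfl | exact key | exact key.symm
  have hPab : ∀ x ∈ (P : Subgroup G), ∀ y ∈ (P : Subgroup G), ⁅x, y⁆ ∈ zpowers c := by
    set K := closure ((Z₀ : Set G) ∪ {a, w})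
    have hPK : (P : Subgroup G) ≤ K := hPsup.trans (sup_le (sup_le
      (fun g hg => subset_closure (Or.inl hg))
      (zpowers_le.2 (subset_closure (Or.inr (Or.inl rfl)))))
      (zpowers_le.2 (subset_closure (Or.inr (Or.inr rfl)))))
    intro x hx y hy
    refine (QuotientGroup.eq_one_iff _).1 (?_ : f ⁅x, y⁆ = 1)
    rw [map_commutatorElement, commutatorElement_eq_one_iff_mul_comm]
    have h1 : ∀ u ∈ K, ∀ v ∈ ((Z₀ : Set G) ∪ {a, w}), f u * f v = f v * f u := by
      intro u hu v hv
      induction hu using closure_induction with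
      | mem u hu => exact hgen u hu v hv
      | one => rw [map_one, one_mul, mul_one]
      | mul u u' _ _ h h' => rw [map_mul, mul_assoc, h', ← mul_assoc, h, mul_assoc]
      | inv u _ h =>
        rw [map_inv]
        exact (show Commute (f u) (f v) from h).inv_left.eq
    have h2 : ∀ v ∈ K, f x * f v = f v * f x := by
      intro v hv
      induction hv using closure_induction with
      | mem v hv => exact h1 x (hPK hx) v hv
      | one => rw [map_one, one_mul, mul_one]
      | mul v v' _ _ h h' => rw [map_mul, ← mul_assoc, h, mul_assoc, h', mul_assoc]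
      | inv v _ h =>
        rw [map_inv]
        exact (show Commute (f x) (f v) from h).inv_right.eq
    exact h2 y (hPK hy)
  have heq : ⁅(P : Subgroup G), (P : Subgroup G)⁆ = zpowers c :=
    le_antisymm (Subgroup.commutator_le.2 hPab)
      (zpowers_le.2 (commutator_mem_commutator hwP (hRP ha)))
  rw [← card_map_of_injective (P : Subgroup G).subtype_injective (K := commutator (P : Subgroup G)),
    map_subtype_commutator, heq, Nat.card_zpowers, hco]

end Cfsg.Agent.ClassSize.TwoSteps
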