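import Cfsg.Agent.Lib.ClassSize.TwoSteps.CaseA
import Cfsg.Agent.Lib.ClassSize.TwoSteps.CaseB
import Cfsg.Agent.Lib.CLarge.Basic

/-!
# Class sizes `{1, m, mn}` with `(m, n) = 1`: the abelian centraliser `H` has prime index `m`

`Core G m H` records what case A gives for `H = C(x)`: it is abelian of index `m` and it is the
centraliser of each of its noncentral elements.
-/

namespace Cfsg.Agent.ClassSize.TwoSteps

open Subgroup Cfsg.Agent.ClassSize.CoprimeTop
open scoped commutatorElement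

variable {G : Type*} [Group G] [Finite G] {p q r m n : ℕ}

omit [Finite G] in
theorem IsPEl.conj {g : G} (hg : IsPEl r g) (h : G) : IsPEl r (h * g * h⁻¹) :=
  hg.imp fun k hk => by rw [conj_pow, hk, mul_one, mul_inv_cancel]

omit [Finite G] in
theorem conj_notMem_center {a : G} (ha : a ∉ center G) (g : G) : g * a * g⁻¹ ∉ center G := fun h =>
  ha (by simpa [mul_assoc] using
    (inferInstance : (center G).Normal).conj_mem _ h g⁻¹)

omit [Finite G] in
theorem mem_normalizer_of_conj {A : Subgroup G} {B : Subgroup G}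
    (h : ∀ g ∈ B, ∀ a ∈ A, g * a * g⁻¹ ∈ A) : B ≤ normalizer (A : Set G) := fun g hg => by
  refine mem_normalizer_iff.2 fun a => ⟨h g hg a, fun ha => ?_⟩
  simpa [mul_assoc] using h g⁻¹ (inv_mem hg) _ ha

/-- An element `g` of `r`-power order acts on `S` with `S ∩ C(g)` as fixed points. -/
theorem card_modEq_cent [hr : Fact r.Prime] {S : Subgroup G} {g : G} (hg : IsPEl r g)
    (hgS : g ∈ normalizer (S : Set G)) :
    Nat.card S ≡ Nat.card ↥(S ⊓ cent g) [MOD r] := by
  set f : zpowers g →* MulAut S :=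
    (S.normalizerMonoidHom).comp (inclusion (zpowers_le.2 hgS))
  have hA : IsPGroup r f.range := hg.isPGroup_zpowers.of_surjective _ f.rangeRestrict_surjective
  have h := hA.card_modEq_card_fixedPoints S
  refine h.trans (congrArg (· % r) ?_)
  rw [← Nat.card_congr (subgroupOfEquivOfLe (inf_le_left : S ⊓ cent g ≤ S)).toEquiv]
  refine Nat.card_congr (Equiv.setCongr ?_)
  ext s
  have e : ∀ (y : zpowers g), ((f y s : S) : G) = (y : G) * s * (y : G)⁻¹ := fun y => rfl
  constructor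
  · intro hs
    refine mem_subgroupOf.2 ⟨s.2, mem_cent.2 ?_⟩
    have h1 := hs ⟨f ⟨g, mem_zpowers g⟩, ⟨_, rfl⟩⟩
    exact mul_inv_eq_iff_eq_mul.1 ((e ⟨g, mem_zpowers g⟩).symm.trans (congrArg Subtype.val h1))
  · rintro hs ⟨_, y, rfl⟩
    refine Subtype.ext ((e y).trans ?_)
    obtain ⟨i, hi⟩ := mem_zpowers_iff.1 y.2
    rw [← hi, mul_inv_eq_iff_eq_mul]
    exact ((show Commute g (s : G) from mem_cent.1 (mem_subgroupOf.1 hs).2).zpow_left i).eq

/-! ### Primary parts of abelian subgroups -/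

/-- The elements of `r`-power order of an abelian subgroup. -/
def part {A : Subgroup G} (hA : ∀ a ∈ A, ∀ b ∈ A, a * b = b * a) (r : ℕ) : Subgroup G where
  carrier := {g | g ∈ A ∧ IsPEl r g}
  one_mem' := ⟨A.one_mem, 0, one_pow _⟩
  mul_mem' {a b} ha hb := by
    obtain ⟨ha, i, hi⟩ := ha
    obtain ⟨hb, j, hj⟩ := hb
    refine ⟨A.mul_mem ha hb, i + j, ?_⟩
    rw [(show Commute a b from hA a ha b hb).mul_pow, pow_add, pow_mul, hi, one_pow, one_mul,
      mul_comm, pow_mul, hj, one_pow]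
  inv_mem' {a} ha := ⟨A.inv_mem ha.1, ha.2.imp fun _ h => by rw [inv_pow, h, inv_one]⟩

/-- The elements of order prime to `p` of an abelian subgroup. -/
def cpart {A : Subgroup G} (hA : ∀ a ∈ A, ∀ b ∈ A, a * b = b * a) (p : ℕ) : Subgroup G where
  carrier := {g | g ∈ A ∧ (orderOf g).Coprime p}
  one_mem' := ⟨A.one_mem, by simp⟩
  mul_mem' {a b} ha hb := ⟨A.mul_mem ha.1 hb.1,
    (Nat.Coprime.mul_left ha.2 hb.2).coprime_dvd_left
      (show Commute a b from hA a ha.1 b hb.1).orderOf_mul_dvd_mul_orderOf⟩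
  inv_mem' {a} ha := ⟨A.inv_mem ha.1, by rw [orderOf_inv]; exact ha.2⟩

section Part

variable {A : Subgroup G} (hA : ∀ a ∈ A, ∀ b ∈ A, a * b = b * a)

omit [Finite G] in
theorem part_le : part hA r ≤ A := fun _ h => h.1

omit [Finite G] in
theorem cpart_le : cpart hA r ≤ A := fun _ h => h.1

omit [Finite G] in
theorem mem_part {g : G} : g ∈ part hA r ↔ g ∈ A ∧ IsPEl r g := Iff.rfl

omit [Finite G] in
theorem mem_cpart {g : G} : g ∈ cpart hA r ↔ g ∈ A ∧ (orderOf g).Coprime r := Iff.rfl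

omit [Finite G] in
theorem isPGroup_part : IsPGroup r (part hA r) := fun g => g.2.2.imp fun _ h => Subtype.ext h

theorem card_part [Fact r.Prime] : Nat.card (part hA r) = pp r A := by
  refine le_antisymm (card_le_pp (part_le hA) (isPGroup_part hA)) ?_
  obtain ⟨W, hW, hWr, hWc⟩ := exists_pp_subgroup r A
  exact hWc ▸ Subgroup.card_le_of_le fun g hg => ⟨hW hg, isPEl_of_mem hWr hg⟩

theorem not_dvd_card_cpart [hr : Fact r.Prime] : ¬ r ∣ Nat.card (cpart hA r) := fun h => by
  obtain ⟨g, hg⟩ := exists_prime_orderOf_dvd_card' r h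
  have := g.2.2
  rw [Subgroup.orderOf_coe, hg] at this
  exact hr.out.one_lt.ne' ((Nat.coprime_self r).1 this)

theorem card_eq_part_mul_cpart [hr : Fact r.Prime] :
    Nat.card A = pp r A * Nat.card (cpart hA r) := by
  have hle : part hA r ≤ normalizer ((cpart hA r : Subgroup G) : Set G) := fun g hg =>
    centralizer_le_normalizer _ (mem_centralizer_iff.2 fun b hb =>
      hA b hb.1 g hg.1)
  have hinf : part hA r ⊓ cpart hA r = ⊥ := by
    refine (Subgroup.eq_bot_iff_forall _).2 fun g hg => ?_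
    obtain ⟨k, hk⟩ := hg.1.2.orderOf_dvd
    exact orderOf_eq_one_iff.1 (Nat.eq_one_of_dvd_coprimes (hg.2.2.pow_right k) dvd_rfl hk)
  have hsup : part hA r ⊔ cpart hA r = A := by
    refine le_antisymm (sup_le (part_le hA) (cpart_le hA)) fun g hg =>
      mem_of_forall_primary fun s hs y hy hys => ?_
    have hyA : y ∈ A := zpowers_le.2 hg hy
    by_cases h : s = r
    · exact mem_sup_left ⟨hyA, h ▸ hys⟩
    · obtain ⟨k, hk⟩ := hys.orderOf_dvd
      exact mem_sup_right
        ⟨hyA, (((Nat.coprime_primes hs hr.out).2 h).pow_left k).coprime_dvd_left hk⟩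
  have h1 := Coprime.card_sup_of_le_normalizer hle hinf
  rwa [hsup, card_part] at h1

omit [Finite G] in
theorem normalizer_le_part : normalizer (A : Set G) ≤ normalizer ((part hA r : Subgroup G) : Set G) :=
  mem_normalizer_of_conj fun _ hg a ha => ⟨(mem_normalizer_iff.1 hg a).1 ha.1, ha.2.conj _⟩

omit [Finite G] in
theorem normalizer_le_cpart :
    normalizer (A : Set G) ≤ normalizer ((cpart hA r : Subgroup G) : Set G) :=
  mem_normalizer_of_conj fun g hg a ha => ⟨(mem_normalizer_iff.1 hg a).1 ha.1, by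
    have : orderOf (g * a * g⁻¹) = orderOf a :=
      orderOf_injective (MulAut.conj g).toMonoidHom (MulAut.conj g).injective a
    rw [this]; exact ha.2⟩

end Part

/-! ### The abelian centraliser -/

/-- What case A gives for the centraliser of a type 1 element. -/
structure Core (G : Type*) [Group G] (m : ℕ) (H : Subgroup G) : Prop where
  idx : H.index = m
  cen : center G ≤ H
  hab : ∀ a ∈ H, ∀ b ∈ H, a * b = b * a
  hmax : ∀ a ∈ H, a ∉ center G → cent a = H
  ex : ∃ a ∈ H, a ∉ center G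

/-- Case A always happens. -/
theorem Hyp.exists_core (S : Hyp G m n) : ∃ H : Subgroup G, Core G m H := by
  obtain ⟨r, hr, hrm, g, hg, hgZ, hcl⟩ : ∃ r : ℕ, r.Prime ∧ r ∣ m ∧ ∃ g : G,
      IsPEl r g ∧ g ∉ center G ∧ cl g = m := by
    by_contra h
    push Not at h
    exact false_of_allTypeTwo S fun r hr hrm g hg hgZ =>
      (S.noncentral hgZ).resolve_left (h r hr hrm g hg hgZ)
  have := Fact.mk hr
  obtain ⟨h1, h2⟩ := S.abelian_cent hrm hg hcl
  exact ⟨cent g, hcl, center_le_cent g, h1, h2, g, self_mem_cent g, hgZ⟩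

theorem exists_prime_dvd_n (S : Hyp G m n) : ∃ q : ℕ, q.Prime ∧ q ∣ n ∧ ¬ q ∣ m := by
  obtain ⟨q, hq, hqn⟩ := Nat.exists_prime_and_dvd (show n ≠ 1 by have := S.hn; omega)
  exact ⟨q, hq, hqn, fun h => hq.not_dvd_one (S.hco.gcd_eq_one ▸ Nat.dvd_gcd h hqn)⟩

variable {H : Subgroup G}

theorem Core.cl_eq (C : Core G m H) {a : G} (ha : a ∈ H) (haZ : a ∉ center G) : cl a = m := by
  rw [cl, C.hmax a ha haZ, C.idx]

theorem Core.mem_center_of_commute (C : Core G m H) {w a : G} (hw : w ∉ H) (ha : a ∈ H)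
    (h : a * w = w * a) : a ∈ center G := by
  by_contra haZ
  exact hw (C.hmax a ha haZ ▸ mem_cent.2 h)

theorem Core.mem_normalizer (C : Core G m H) {g a : G} (ha : a ∈ H) (haZ : a ∉ center G)
    (hga : g * a * g⁻¹ ∈ H) : g ∈ normalizer (H : Set G) := by
  have e := C.hmax _ hga (conj_notMem_center haZ g)
  refine mem_normalizer_iff.2 fun v => ?_
  conv_rhs => rw [← e, cent_conj_mem, C.hmax a ha haZ]
  simp [mul_assoc]

theorem Core.pp_eq (C : Core G m H) (S : Hyp G m n) [Fact r.Prime] (hrm : r ∣ m) {g : G}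
    (hg : g ∉ center G) : pp r H = pp r (cent g) := by
  obtain ⟨a, ha, haZ⟩ := C.ex
  rw [← C.hmax a ha haZ]
  exact S.pp_cent_eq hrm haZ hg

theorem Core.pp_center_lt (C : Core G m H) (S : Hyp G m n) [Fact r.Prime] (hrm : r ∣ m) :
    pp r (center G) < pp r H := by
  obtain ⟨a, ha, haZ⟩ := C.ex
  rw [← C.hmax a ha haZ]
  exact S.pp_center_lt hrm haZ

theorem Core.exists_mem_part (C : Core G m H) (S : Hyp G m n) [Fact r.Prime] (hrm : r ∣ m) :
    ∃ a ∈ part C.hab r, a ∉ center G :=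
  exists_notMem_center (isPGroup_part C.hab)
    (by rw [card_part]; exact C.pp_center_lt S hrm)

/-- The `q`-part of `H`, `q ∤ m`, is a Sylow subgroup of `G`. -/
theorem Core.exists_sylow (C : Core G m H) [Fact q.Prime] (hqm : ¬ q ∣ m) :
    ∃ Q : Sylow q G, (Q : Subgroup G) = part C.hab q := by
  have h1 : Nat.card (part C.hab q) = q ^ (Nat.card G).factorization q := by
    have h := factorization_index (p := q) H
    rw [C.idx, Nat.factorization_eq_zero_of_not_dvd hqm, add_zero] at h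
    rw [card_part, pp, h]
  exact ⟨Sylow.ofCard _ h1, rfl⟩

theorem Core.exists_mem_part_n (C : Core G m H) (S : Hyp G m n) [hq : Fact q.Prime] (hqn : q ∣ n)
    (hqm : ¬ q ∣ m) : ∃ y ∈ part C.hab q, y ∉ center G := by
  by_contra h
  push Not at h
  obtain ⟨Q, hQ⟩ := C.exists_sylow hqm
  obtain ⟨w, hw⟩ := S.ex_mn
  refine Q.not_dvd_index (dvd_trans ?_ (index_dvd_of_le
    (hQ ▸ fun v hv => center_le_cent w (h v hv) : (Q : Subgroup G) ≤ cent w)))
  show q ∣ cl w
  rw [hw]
  exact hqn.mul_left m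

theorem Core.conj_mem_of_type_one (C : Core G m H) (S : Hyp G m n) {g : G} (hg : cl g = m) :
    ∃ h : G, h * g * h⁻¹ ∈ H := by
  obtain ⟨q, hq, hqn, hqm⟩ := exists_prime_dvd_n S
  have := Fact.mk hq
  obtain ⟨y, hy, hyZ⟩ := C.exists_mem_part_n S hqn hqm
  obtain ⟨k, hk⟩ := hy.2.orderOf_dvd
  obtain ⟨j, -, hj⟩ := (Nat.dvd_prime_pow hq).1 hk
  obtain ⟨h, hh⟩ := exists_conj_mem hq hj (H := cent g)
    (fun e => hqm (by rwa [show (cent g).index = m from hg] at e))
  refine ⟨h, ?_⟩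
  rw [← C.hmax y hy.1 hyZ]
  refine cent_comm.1 ?_
  rw [cent_conj_mem]
  exact hh

theorem Core.exists_type_two (C : Core G m H) (S : Hyp G m n) [Fact r.Prime] (hrm : r ∣ m) :
    ∃ v : G, IsPEl r v ∧ v ∉ center G ∧ ∀ h : G, h * v * h⁻¹ ∉ H := by
  obtain ⟨w, hw⟩ := S.ex_mn
  have hwZ := S.notMem_center_of_mn hw
  obtain ⟨v, hv, hvr, hvZ⟩ := S.exists_noncentral_mem_cent hrm hwZ
  refine ⟨v, hvr, hvZ, fun h hh => ?_⟩
  have h1 : h * w * h⁻¹ ∈ H := by
    rw [← C.hmax _ hh (conj_notMem_center hvZ h), cent_conj_mem]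
    simpa [mul_assoc] using cent_comm.1 hv
  have h2 := C.cl_eq h1 (conj_notMem_center hwZ h)
  rw [cl_conj, hw] at h2
  exact S.lt.ne' h2

omit [Finite G] in
theorem isPGroup_center_inf {W : Subgroup G} (hW : IsPGroup r W) (V : Subgroup G) :
    IsPGroup r ↥(W ⊓ V) := hW.to_le inf_le_left

theorem le_of_inf_le_center [Fact r.Prime] {A B T : Subgroup G} (hAT : A ≤ T) (hBT : B ≤ T)
    (hA : IsPGroup r A) (hAB : A ⊓ B ≤ center G) :
    Nat.card A * Nat.card B ≤ Nat.card T * pp r (center G) :=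
  (CLarge.card_mul_card_le A B).trans (Nat.mul_le_mul (Subgroup.card_le_of_le (sup_le hAT hBT))
    (card_le_pp hAB (isPGroup_center_inf hA B)))

/-- `N_P(R)` has order `r |R|`. -/
theorem Core.card_inf_normalizer (C : Core G m H) (S : Hyp G m n) [hr : Fact r.Prime]
    (hrm : r ∣ m) (P : Sylow r G) (hRP : part C.hab r ≤ (P : Subgroup G)) :
    Nat.card ↥((P : Subgroup G) ⊓ normalizer ((part C.hab r : Subgroup G) : Set G)) =
      pp r H * r := by
  classical
  set R := part C.hab r with hRdef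
  set T := (P : Subgroup G) ⊓ normalizer (R : Set G) with hTdef
  have hRT : R ≤ T := le_inf hRP le_normalizer
  obtain ⟨b, hb, hbZ⟩ := C.exists_mem_part S hrm
  have hTH : T ≤ normalizer (H : Set G) := fun g hg =>
    C.mem_normalizer hb.1 hbZ ((mem_normalizer_iff.1 hg.2 b).1 hb).1
  have hTr : IsPGroup r T := P.isPGroup'.to_le inf_le_left
  have hne : R ≠ T := by
    intro he
    have hlt : R.subgroupOf P ≠ ⊤ := fun h => by
      have h1 : (P : Subgroup G) ≤ R := subgroupOf_eq_top.1 h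
      have h2 := Subgroup.card_le_of_le h1
      rw [card_part, C.pp_eq S hrm hbZ] at h2
      exact absurd h2 (not_le.2 (S.pp_cent_lt hrm hbZ P))
    obtain ⟨⟨t, htP⟩, ht, htR⟩ := SetLike.exists_of_lt (PGroup.lt_normalizer P.isPGroup' hlt)
    refine htR (mem_subgroupOf.2 (he.ge (⟨htP, ?_⟩ : t ∈ T)))
    refine mem_normalizer_iff.2 fun v => ⟨fun hv => ?_, fun hv => ?_⟩
    · exact mem_subgroupOf.1 ((mem_normalizer_iff.1 ht ⟨v, hRP hv⟩).1 (mem_subgroupOf.2 hv))
    · have hvP : v ∈ (P : Subgroup G) := by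
        simpa [mul_assoc] using mul_mem (mul_mem (inv_mem htP) (hRP hv)) htP
      exact mem_subgroupOf.1 ((mem_normalizer_iff.1 ht ⟨v, hvP⟩).2 (mem_subgroupOf.2 hv))
  obtain ⟨a, haR, haZ, har, hacom⟩ : ∃ a ∈ R, a ∉ center G ∧ a ^ r ∈ center G ∧
      ∀ g ∈ T, ⁅g, a⁆ ∈ center G := by
    set f := QuotientGroup.mk' (center G)
    have hn : ((R.map f).subgroupOf (T.map f)).Normal := normal_subgroupOf_of_le_normalizer
      ((map_mono (inf_le_right : T ≤ _)).trans (le_normalizer_map f))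
    have hne' : (R.map f).subgroupOf (T.map f) ≠ ⊥ := fun h =>
      hbZ ((QuotientGroup.eq_one_iff b).1 (congrArg Subtype.val ((Subgroup.eq_bot_iff_forall _).1 h
        ⟨f b, mem_map_of_mem f (hRT hb)⟩ (mem_subgroupOf.2 (mem_map_of_mem f hb)))))
    obtain ⟨c, hc, hcZ, hco⟩ := PGroup.exists_orderOf_eq_mem_center (hTr.map f) _ hne'
    obtain ⟨a, ha, hac⟩ := mem_subgroupOf.1 hc
    refine ⟨a, ha, fun h => ?_, ?_, fun g hg => ?_⟩
    · have : c = 1 := Subtype.ext (hac.symm.trans ((QuotientGroup.eq_one_iff a).2 h))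
      rw [this, orderOf_one] at hco
      exact hr.out.ne_one hco.symm
    · refine (QuotientGroup.eq_one_iff _).1 (?_ : f (a ^ r) = 1)
      rw [map_pow, hac]
      exact congrArg Subtype.val (hco ▸ pow_orderOf_eq_one c : c ^ r = 1)
    · refine (QuotientGroup.eq_one_iff _).1 (?_ : f ⁅g, a⁆ = 1)
      rw [map_commutatorElement, hac, commutatorElement_eq_one_iff_mul_comm]
      exact congrArg Subtype.val (mem_center_iff.1 hcZ ⟨f g, mem_map_of_mem f hg⟩)
  have hca := C.hmax a haR.1 haZ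
  obtain ⟨q, hq, hqn, hqm⟩ := exists_prime_dvd_n S
  have := Fact.mk hq
  have hrq : r ≠ q := fun e => hqm (e ▸ hrm)
  obtain ⟨y, hy, hyZ⟩ := C.exists_mem_part_n S hqn hqm
  rw [← card_part C.hab]
  refine card_eq_mul_of_semiregular hRT inf_le_right (fun g hg h hh => ⟨?_, ?_⟩)
    (fun g hg => ⟨?_, ?_⟩) hne (hTH.trans (normalizer_le_part C.hab))
    (IsPGroup.coprime_card_of_ne r q hrq _ _ hTr (isPGroup_part C.hab)) (fun v hv => ?_)
    (fun g hg hgR => ?_) (fun h => hyZ (h hy))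
  · exact hca ▸ mem_cent_of_central_mod (hacom g hg) (hacom h hh)
  · exact isPEl_of_mem hTr (T.mul_mem (T.mul_mem (T.mul_mem hg hh) (inv_mem hg)) (inv_mem hh))
  · exact hca ▸ pow_mem_cent_of_central_mod (hacom g hg) har
  · exact isPEl_of_mem hTr (pow_mem hg r)
  · exact mem_centralizer_iff.2 fun w hw => C.hab w hw.1 v hv.1
  · intro v hv
    exact C.mem_center_of_commute (fun h => hgR ⟨h, isPEl_of_mem hTr hg⟩) hv.1.1
      (mem_centralizer_singleton_iff.1 hv.2)

/-- The `r`-part of `H` is `r` times that of the centre. -/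
theorem Core.pp_eq_mul (C : Core G m H) (S : Hyp G m n) [hr : Fact r.Prime] (hrm : r ∣ m) :
    pp r H = r * pp r (center G) := by
  classical
  set R := part C.hab r with hRdef
  have hRc : Nat.card R = pp r H := card_part C.hab
  refine le_antisymm ?_ ?_
  swap
  · have h := C.pp_center_lt S hrm
    rw [pp, pp, ← pow_succ']
    exact Nat.pow_le_pow_right hr.out.pos ((Nat.pow_lt_pow_iff_right hr.out.one_lt).1 h)
  obtain ⟨P, hRP⟩ := (isPGroup_part C.hab (r := r)).exists_le_sylow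
  have hTc := C.card_inf_normalizer S hrm P hRP
  set T := (P : Subgroup G) ⊓ normalizer (R : Set G) with hTdef
  obtain ⟨b, hb, hbZ⟩ := C.exists_mem_part S hrm
  refine Nat.le_of_mul_le_mul_left ?_ (show 0 < pp r H from pow_pos hr.out.pos _)
  by_cases hTP : T = P
  · obtain ⟨v, hv, hvZ, hvH⟩ := C.exists_type_two S hrm
    obtain ⟨W, hWv, hW, hWc⟩ := exists_pp_subgroup r (cent v)
    obtain ⟨P'', hWP⟩ := hW.exists_le_sylow
    obtain ⟨h, hh⟩ := MulAction.exists_smul_eq G P P''
    set R'' := R.map (MulAut.conj h).toMonoidHom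
    have hR''P : R'' ≤ P'' := by
      rintro _ ⟨a, ha, rfl⟩
      rw [← hh, Sylow.coe_subgroup_smul]
      exact smul_mem_pointwise_smul a (MulAut.conj h) _ (hRP ha)
    have hinf : R'' ⊓ W ≤ center G := by
      rintro _ ⟨⟨a, ha, rfl⟩, haW⟩
      by_contra haZ
      have haZ' : a ∉ center G := fun e => haZ (by
        simpa using (inferInstance : (center G).Normal).conj_mem _ e h)
      refine hvH h⁻¹ ?_
      rw [← C.hmax a ha.1 haZ', inv_inv]
      exact cent_conj_mem.1 (cent_comm.1 (hWv haW))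
    have h1 := le_of_inf_le_center hR''P hWP ((isPGroup_part C.hab).map _) hinf
    rw [card_map_of_injective (MulAut.conj h).injective, hRc, hWc, ← C.pp_eq S hrm hvZ,
      sylow_card P'', ← sylow_card P, ← hTP, hTc] at h1
    calc pp r H * pp r H ≤ pp r H * r * pp r (center G) := h1
      _ = pp r H * (r * pp r (center G)) := mul_assoc _ _ _
  · have hlt : T.subgroupOf P ≠ ⊤ := fun h => hTP (le_antisymm inf_le_left (subgroupOf_eq_top.1 h))
    obtain ⟨⟨g, hgP⟩, hg, hgT⟩ := SetLike.exists_of_lt (PGroup.lt_normalizer P.isPGroup' hlt)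
    set R' := R.map (MulAut.conj g).toMonoidHom
    have hRT : R ≤ T := le_inf hRP le_normalizer
    have hR'T : R' ≤ T := by
      rintro _ ⟨a, ha, rfl⟩
      exact mem_subgroupOf.1 ((mem_normalizer_iff.1 hg ⟨a, hRP ha⟩).1 (mem_subgroupOf.2 (hRT ha)))
    have hinf : R ⊓ R' ≤ center G := by
      rintro _ ⟨hgaR, a, ha, rfl⟩
      by_contra haZ
      have haZ' : a ∉ center G := fun e => haZ (by
        simpa using (inferInstance : (center G).Normal).conj_mem _ e g)
      exact hgT (mem_subgroupOf.2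
        ⟨hgP, normalizer_le_part C.hab (C.mem_normalizer ha.1 haZ' hgaR.1)⟩)
    have h1 := le_of_inf_le_center hRT hR'T (isPGroup_part C.hab) hinf
    rw [card_map_of_injective (MulAut.conj g).injective, hRc, hTc] at h1
    calc pp r H * pp r H ≤ pp r H * r * pp r (center G) := h1
      _ = pp r H * (r * pp r (center G)) := mul_assoc _ _ _

/-- An element `g` normalising `H`, outside it, fixes only central elements of `H`. -/
theorem Core.inf_cent_eq (C : Core G m H) {g : G} (hg : g ∉ H) {B : Subgroup G} (hB : B ≤ H) :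
    B ⊓ cent g = B ⊓ center G :=
  le_antisymm (fun a ha => ⟨ha.1, C.mem_center_of_commute hg (hB ha.1) (mem_cent.1 ha.2).symm⟩)
    (inf_le_inf_left _ (center_le_cent g))

theorem Core.card_part_inf_center (C : Core G m H) [Fact r.Prime] :
    Nat.card ↥(part C.hab r ⊓ center G) = pp r (center G) := by
  refine le_antisymm (card_le_pp inf_le_right (isPGroup_center_inf (isPGroup_part C.hab) _)) ?_
  obtain ⟨W, hW, hWr, hWc⟩ := exists_pp_subgroup r (center G)
  exact hWc ▸ Subgroup.card_le_of_le fun g hg =>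
    (⟨⟨C.cen (hW hg), isPEl_of_mem hWr hg⟩, hW hg⟩ : g ∈ part C.hab r ⊓ center G)

theorem Core.lt_of_ne (C : Core G m H) (S : Hyp G m n) {s : ℕ} [hr : Fact r.Prime]
    [hs : Fact s.Prime] (hrm : r ∣ m) (hsm : s ∣ m) (hrs : r ≠ s) : s < r := by
  classical
  obtain ⟨P, hRP⟩ := (isPGroup_part C.hab (r := s)).exists_le_sylow
  have hTc := C.card_inf_normalizer S hsm P hRP
  obtain ⟨b, hb, hbZ⟩ := C.exists_mem_part S hsm
  set T := (P : Subgroup G) ⊓ normalizer ((part C.hab s : Subgroup G) : Set G)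
  obtain ⟨g, hgT, hgR⟩ : ∃ g ∈ T, g ∉ part C.hab s := by
    by_contra h
    push Not at h
    have h1 := Subgroup.card_le_of_le (show T ≤ part C.hab s from h)
    rw [hTc, card_part] at h1
    exact absurd h1 (not_le.2 (lt_mul_of_one_lt_right (pow_pos hs.out.pos _) hs.out.one_lt))
  have hgs : IsPEl s g := isPEl_of_mem P.isPGroup' hgT.1
  have hgH : g ∉ H := fun h => hgR ⟨h, hgs⟩
  have hgn : g ∈ normalizer (H : Set G) :=
    C.mem_normalizer hb.1 hbZ ((mem_normalizer_iff.1 hgT.2 b).1 hb).1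
  have h1 := card_modEq_cent (S := part C.hab r) hgs (normalizer_le_part C.hab hgn)
  rw [C.inf_cent_eq hgH (part_le C.hab), C.card_part_inf_center, card_part, C.pp_eq_mul S hrm] at h1
  have h2 : r ≡ 1 [MOD s] := Nat.ModEq.cancel_right_of_coprime
    (c := pp r (center G)) (((Nat.coprime_primes hs.out hr.out).2 hrs.symm).pow_right _)
    (by rw [one_mul]; exact h1)
  have h3 := (Nat.modEq_iff_dvd' hr.out.one_lt.le).1 h2.symm
  exact lt_of_le_of_lt (Nat.le_of_dvd (Nat.sub_pos_of_lt hr.out.one_lt) h3)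
    (Nat.sub_lt hr.out.pos one_pos)

theorem Core.eq_prime_pow (C : Core G m H) (S : Hyp G m n) [hp : Fact p.Prime] (hpm : p ∣ m) :
    ∃ k, m = p ^ k := by
  refine ⟨_, Nat.eq_prime_pow_of_unique_prime_dvd (by have := S.hm; omega) fun {r} hr hrm => ?_⟩
  by_contra hne
  have := Fact.mk hr
  exact lt_asymm (C.lt_of_ne S hrm hpm hne) (C.lt_of_ne S hpm hrm (Ne.symm hne))

/-- `H` is normalised by a Sylow `p`-subgroup. -/
theorem Core.sylow_le_normalizer (C : Core G m H) (S : Hyp G m n) [hp : Fact p.Prime]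
    (hpm : p ∣ m) (P : Sylow p G) (hRP : part C.hab p ≤ (P : Subgroup G)) :
    (P : Subgroup G) ≤ normalizer (H : Set G) := by
  classical
  set R := part C.hab p with hRdef
  obtain ⟨b, hb, hbZ⟩ := C.exists_mem_part S hpm
  have hNR : normalizer (H : Set G) ≤ normalizer (R : Set G) := normalizer_le_part C.hab
  have hRN : normalizer (R : Set G) ≤ normalizer (H : Set G) := fun g hg =>
    C.mem_normalizer hb.1 hbZ ((mem_normalizer_iff.1 hg b).1 hb).1
  have hTc := C.card_inf_normalizer S hpm P hRP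
  set T := (P : Subgroup G) ⊓ normalizer (R : Set G) with hTdef
  have hz := C.pp_eq_mul S hpm
  by_contra hPN
  obtain ⟨u, huP, huZ, hup, hucom⟩ := exists_central_mod S hpm P
  have hPu : (P : Subgroup G) ≤ normalizer ((cent u : Subgroup G) : Set G) := fun g hg =>
    mem_normalizer_cent (hucom g hg)
  have huR : u ∉ R := fun h => hPN (C.hmax u h.1 huZ ▸ hPu)
  set U := (P : Subgroup G) ⊓ cent u with hUdef
  have hUc : Nat.card U = pp p H := by
    rw [hUdef, card_inf_of_le_normalizer P hPu, C.pp_eq S hpm huZ]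
  have hU : IsPGroup p U := P.isPGroup'.to_le inf_le_left
  -- `U` lies in `T`
  have huT : u ∈ T := by
    have hu' : ∀ a ∈ R, u * a * u⁻¹ ∈ R := fun a ha => by
      have hc := hucom _ (inv_mem (hRP ha))
      have hcP : ⁅a⁻¹, u⁆ ∈ (P : Subgroup G) := by
        rw [commutatorElement_def]
        exact mul_mem (mul_mem (mul_mem (inv_mem (hRP ha)) huP) (inv_mem (inv_mem (hRP ha))))
          (inv_mem huP)
      rw [show u * a * u⁻¹ = a * ⁅a⁻¹, u⁆ by group]
      exact mul_mem ha (⟨C.cen hc, isPEl_of_mem P.isPGroup' hcP⟩ : _ ∈ R)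
    have hmap : R.map (MulAut.conj u).toMonoidHom = R := eq_of_le_of_card_ge
      (by rintro _ ⟨a, ha, rfl⟩; exact hu' a ha)
      (by rw [card_map_of_injective (MulAut.conj u).injective])
    refine ⟨huP, mem_normalizer_iff.2 fun v => ⟨hu' v, fun hv => ?_⟩⟩
    obtain ⟨w, hw, he⟩ := hmap.ge hv
    exact (MulAut.conj u).injective he ▸ hw
  have hUT : U ≤ T := by
    have h1 : part C.hab p ⊓ center G ≤ U ⊓ T := fun g hg =>
      ⟨⟨hRP hg.1, center_le_cent u hg.2⟩, hRP hg.1, le_normalizer hg.1⟩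
    have h2 : u ∈ U ⊓ T := ⟨⟨huP, self_mem_cent u⟩, huT⟩
    have h3 : part C.hab p ⊓ center G < U ⊓ T := lt_of_le_of_ne h1 fun h => huZ (h.ge h2).2
    refine inf_eq_left.1 (eq_of_le_of_card_ge inf_le_left ?_)
    obtain ⟨i, hi⟩ := IsPGroup.iff_card.1 (hU.to_le (inf_le_left : U ⊓ T ≤ U))
    have h4 : Nat.card ↥(part C.hab p ⊓ center G) < Nat.card ↥(U ⊓ T) := lt_of_le_of_ne
      (Subgroup.card_le_of_le h1) fun h => h3.ne (eq_of_le_of_card_ge h1 h.ge)
    rw [C.card_part_inf_center, hi, pp] at h4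
    rw [hUc, hz, hi, pp, ← pow_succ']
    exact Nat.pow_le_pow_right hp.out.pos ((Nat.pow_lt_pow_iff_right hp.out.one_lt).1 h4)
  -- `|P : T| ≤ p`
  set f := QuotientGroup.mk' (center G)
  have hUf : Nat.card (U.map f) = p := by
    have h1 : Nat.card ↥(center G ⊓ U) = pp p (center G) := by
      refine le_antisymm (card_le_pp inf_le_left (hU.to_le inf_le_right)) ?_
      rw [← C.card_part_inf_center]
      exact Subgroup.card_le_of_le fun g hg => ⟨hg.2, hRP hg.1, center_le_cent u hg.2⟩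
    have h2 := card_mul_index ((center G).subgroupOf U)
    rw [← inf_subgroupOf_right, Nat.card_congr (subgroupOfEquivOfLe
      (inf_le_right : center G ⊓ U ≤ U)).toEquiv, h1, hUc, hz, ← relIndex, inf_relIndex_right,
      mul_comm p] at h2
    rw [← relIndex_ker, QuotientGroup.ker_mk']
    exact Nat.eq_of_mul_eq_mul_left (pow_pos hp.out.pos _) h2
  have hab : ∀ g ∈ (P : Subgroup G), ∀ h ∈ (P : Subgroup G), ⁅g, h⁆ ∈ U := fun g hg h hh =>
    mem_inf.2 ⟨(P : Subgroup G).mul_mem ((P : Subgroup G).mul_mem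
      ((P : Subgroup G).mul_mem hg hh) (inv_mem hg)) (inv_mem hh),
      mem_cent_of_central_mod (hucom g hg) (hucom h hh)⟩
  have hidx : Nat.card (P : Subgroup G) ≤ p * Nat.card T := by
    let F : (P : Subgroup G) ⧸ T.subgroupOf P → U.map f := fun c =>
      ⟨f ⁅(c.out : G), b⁆, mem_map_of_mem f (hab _ c.out.2 b (hRP hb))⟩
    have hF : Function.Injective F := by
      intro c d hcd
      rw [← c.out_eq, ← d.out_eq]
      refine QuotientGroup.eq.2 (mem_subgroupOf.2 ?_)
      set g := (c.out : G) with hgdef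
      set h := (d.out : G) with hhdef
      have h1 : f (g * b * g⁻¹) = f (h * b * h⁻¹) := by
        rw [show g * b * g⁻¹ = ⁅g, b⁆ * b by group, show h * b * h⁻¹ = ⁅h, b⁆ * b by group,
          map_mul f, map_mul f, show f ⁅g, b⁆ = f ⁅h, b⁆ from congrArg Subtype.val hcd]
      obtain ⟨z, hz', hze⟩ : ∃ z ∈ center G, g * b * g⁻¹ * z = h * b * h⁻¹ :=
        (QuotientGroup.mk'_eq_mk' _).1 h1
      refine mem_inf.2 ⟨(P : Subgroup G).mul_mem (inv_mem c.out.2) d.out.2, hNR (C.mem_normalizer hb.1 hbZ ?_)⟩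
      show g⁻¹ * h * b * (g⁻¹ * h)⁻¹ ∈ H
      rw [show g⁻¹ * h * b * (g⁻¹ * h)⁻¹ = g⁻¹ * (h * b * h⁻¹) * g by group, ← hze,
        show g⁻¹ * (g * b * g⁻¹ * z) * g = b * (g⁻¹ * z) * g by group,
        mem_center_iff.1 hz' g⁻¹, show b * (z * g⁻¹) * g = b * z by group]
      exact mul_mem hb.1 (C.cen hz')
    have h1 := Nat.card_le_card_of_injective F hF
    rw [hUf] at h1
    rw [card_eq_card_quotient_mul_card_subgroup (T.subgroupOf P),
      Nat.card_congr (subgroupOfEquivOfLe (inf_le_left : T ≤ (P : Subgroup G))).toEquiv]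
    exact Nat.mul_le_mul_right _ h1
  -- so `m = p ^ 2`
  have hPT : T < P := lt_of_le_of_ne inf_le_left fun h =>
    hPN ((h.ge.trans inf_le_right).trans hRN)
  have hPc : Nat.card (P : Subgroup G) = pp p H * p ^ 2 := by
    have h1 : Nat.card T < Nat.card (P : Subgroup G) := lt_of_le_of_ne
      (Subgroup.card_le_of_le inf_le_left) fun h => hPT.ne (eq_of_le_of_card_ge hPT.le h.ge)
    rw [hTc] at h1 hidx
    rw [sylow_card, pp, ← pow_succ] at h1 hidx
    rw [← pow_succ'] at hidx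
    rw [sylow_card, pp, ← pow_add]
    have h2 := (Nat.pow_le_pow_iff_right hp.out.one_lt).1 hidx
    have h3 := (Nat.pow_lt_pow_iff_right hp.out.one_lt).1 h1
    congr 1
    omega
  have hm2 : m = p ^ 2 := by
    have h1 := S.pp_cent hpm hbZ
    rw [← C.pp_eq S hpm hbZ, ← sylow_card P, hPc] at h1
    have h2 := Nat.pow_right_injective hp.out.two_le
      (Nat.eq_of_mul_eq_mul_left (pow_pos hp.out.pos _) h1)
    obtain ⟨k, hk⟩ := C.eq_prime_pow S hpm
    rw [hk, hp.out.factorization_pow, Finsupp.single_eq_same] at h2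
    rw [hk, h2]
  -- `N(H)` has index `p`
  set N := normalizer (H : Set G) with hNdef
  have hTN : T ≤ N := inf_le_right.trans hRN
  have hNidx : N.index = p := by
    obtain ⟨j, hj2, hj⟩ := (Nat.dvd_prime_pow hp.out).1 (hm2 ▸ C.idx ▸ index_dvd_of_le
      (le_normalizer : H ≤ N) : N.index ∣ p ^ 2)
    have hj0 : j ≠ 0 := fun h => hPN fun g _ => by
      rw [h, pow_zero, index_eq_one] at hj
      exact hj.ge (mem_top g)
    have hjlt : j ≠ 2 := fun h => by
      rw [h, ← hm2, ← C.idx] at hj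
      have h1 : H = N := eq_of_le_of_card_ge le_normalizer (le_of_eq (by
        have e1 := card_mul_index H
        have e2 := card_mul_index N
        rw [hj, ← e1] at e2
        exact Nat.eq_of_mul_eq_mul_right (Nat.pos_of_ne_zero index_ne_zero_of_finite) e2))
      have h2 : T ≤ R := fun g hg => ⟨h1.ge (hTN hg), isPEl_of_mem P.isPGroup' hg.1⟩
      have h3 := Subgroup.card_le_of_le h2
      rw [hTc, card_part] at h3
      exact absurd h3 (not_le.2 (lt_mul_of_one_lt_right (pow_pos hp.out.pos _) hp.out.one_lt))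
    rw [hj, show j = 1 by omega, pow_one]
  -- a Sylow `q`-subgroup of `H` moves the conjugates of `H` semiregularly modulo the centre
  obtain ⟨q, hq, hqn, hqm⟩ := exists_prime_dvd_n S
  have := Fact.mk hq
  obtain ⟨y, hy, hyZ⟩ := C.exists_mem_part_n S hqn hqm
  set Q := part C.hab q with hQdef
  have hQN : ∀ v ∈ N, IsPEl q v → v ∈ Q := by
    intro v hv hvq
    have hn : (H.subgroupOf N).Normal := normal_subgroupOf_of_le_normalizer le_rfl
    refine ⟨?_, hvq⟩
    refine mem_subgroupOf.1 (mem_of_normal (p := q) (C := H.subgroupOf N) (H := ⊤) le_top ?_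
      (g := (⟨v, hv⟩ : N)) (hvq.imp fun _ h => Subtype.ext h) (mem_top _))
    rw [pp, pp, card_top, Nat.card_congr (subgroupOfEquivOfLe (le_normalizer : H ≤ N)).toEquiv]
    refine Nat.pow_le_pow_right hq.pos ?_
    have h1 := factorization_index (p := q) H
    rw [C.idx, Nat.factorization_eq_zero_of_not_dvd hqm, add_zero] at h1
    rw [h1]
    exact (Nat.factorization_le_iff_dvd Nat.card_pos.ne' Nat.card_pos.ne').2
      (card_subgroup_dvd_card N) q
  obtain ⟨g₀, hg₀⟩ : ∃ g : G, g ∉ N := by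
    by_contra h
    push Not at h
    exact hPN fun g _ => h g
  set K := (Q ⊓ center G).subgroupOf Q with hKdef
  have hle : Nat.card (Q ⧸ K) < p := by
    let F : Q ⧸ K → G ⧸ N := fun c => ((((c.out : Q) : G) * g₀ : G) : G ⧸ N)
    have hmem : ∀ v ∈ Q, g₀⁻¹ * v * g₀ ∈ N → v ∈ center G := fun v hv h => by
      by_contra hvZ
      have h1 : IsPEl q (g₀⁻¹ * v * g₀) := by simpa using hv.2.conj g₀⁻¹
      refine hg₀ (inv_mem_iff.1 (C.mem_normalizer hv.1 hvZ ?_))
      rw [inv_inv]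
      exact (hQN _ h h1).1
    have hF : Function.Injective F := by
      intro c d hcd
      rw [← c.out_eq, ← d.out_eq]
      refine QuotientGroup.eq.2 (mem_subgroupOf.2 ⟨((c.out)⁻¹ * d.out).2, ?_⟩)
      refine hmem _ ((c.out)⁻¹ * d.out).2 ?_
      have h1 := QuotientGroup.eq.1 hcd
      convert h1 using 1
      simp [mul_assoc]
    have hnot : ((1 : G) : G ⧸ N) ∉ Set.range F := by
      rintro ⟨c, hc⟩
      have h1 : (1 : G)⁻¹ * (((c.out : Q) : G) * g₀) ∈ N := QuotientGroup.eq.1 hc.symm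
      rw [inv_one, one_mul] at h1
      have h2 : g₀⁻¹ * ((c.out : Q) : G) * g₀ ∈ N → False := fun h => by
        have hcZ := hmem _ c.out.2 h
        exact hg₀ ((mul_mem_cancel_left (le_normalizer (C.cen hcZ))).1 h1)
      by_cases hcZ : ((c.out : Q) : G) ∈ center G
      · exact hg₀ ((mul_mem_cancel_left (le_normalizer (C.cen hcZ))).1 h1)
      · exact hg₀ ((mul_mem_cancel_left (le_normalizer c.out.2.1)).1 h1)
    rw [← hNidx, index]
    have := Fintype.ofFinite (Q ⧸ K)
    have := Fintype.ofFinite (G ⧸ N)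
    rw [Nat.card_eq_fintype_card, Nat.card_eq_fintype_card]
    exact Fintype.card_lt_of_injective_of_notMem F hF hnot
  obtain ⟨g, hgT, hgR⟩ : ∃ g ∈ T, g ∉ R := by
    by_contra h
    push Not at h
    have h1 := Subgroup.card_le_of_le (show T ≤ R from h)
    rw [hTc, card_part] at h1
    exact absurd h1 (not_le.2 (lt_mul_of_one_lt_right (pow_pos hp.out.pos _) hp.out.one_lt))
  have hgp := isPEl_of_mem P.isPGroup' hgT.1
  have h1 := card_modEq_cent (S := Q) hgp (normalizer_le_part C.hab (hTN hgT))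
  have hKc : Nat.card K = Nat.card ↥(Q ⊓ center G) :=
    Nat.card_congr (subgroupOfEquivOfLe (inf_le_left : Q ⊓ center G ≤ Q)).toEquiv
  rw [C.inf_cent_eq (fun h => hgR ⟨h, hgp⟩) (part_le C.hab),
    card_eq_card_quotient_mul_card_subgroup K, hKc] at h1
  have hcop : p.Coprime (Nat.card ↥(Q ⊓ center G)) := by
    obtain ⟨i, hi⟩ := IsPGroup.iff_card.1 ((isPGroup_part C.hab (r := q)).to_le
      (inf_le_left : Q ⊓ center G ≤ Q))
    rw [hi]
    exact ((Nat.coprime_primes hp.out hq).2 fun e => hqm (e ▸ hpm)).pow_right i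
  have h2 : Nat.card (Q ⧸ K) ≡ 1 [MOD p] := Nat.ModEq.cancel_right_of_coprime hcop
    (by rw [one_mul]; exact h1)
  have h3 : Nat.card (Q ⧸ K) = 1 := by
    rwa [Nat.ModEq, Nat.mod_eq_of_lt hle, Nat.mod_eq_of_lt hp.out.one_lt] at h2
  have h4 : K = ⊤ := index_eq_one.1 h3
  exact hyZ (mem_subgroupOf.1 (h4.ge (mem_top (⟨y, hy⟩ : Q)))).2

/-- `m` is prime and `H` is normal of index `m`. -/
theorem Core.prime_and_normal (C : Core G m H) (S : Hyp G m n) : m.Prime ∧ H.Normal := by
  obtain ⟨p, hp, hpm⟩ := Nat.exists_prime_and_dvd (show m ≠ 1 by have := S.hm; omega)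
  have := Fact.mk hp
  obtain ⟨P, hRP⟩ := (isPGroup_part C.hab (r := p)).exists_le_sylow
  have hPN := C.sylow_le_normalizer S hpm P hRP
  obtain ⟨b, hb, hbZ⟩ := C.exists_mem_part S hpm
  have hTc := C.card_inf_normalizer S hpm P hRP
  rw [inf_eq_left.2 (hPN.trans (normalizer_le_part C.hab))] at hTc
  have h1 := S.pp_cent hpm hbZ
  rw [← C.pp_eq S hpm hbZ, ← sylow_card P, hTc] at h1
  obtain ⟨k, hk⟩ := C.eq_prime_pow S hpm
  have h2 := Nat.eq_of_mul_eq_mul_left (pow_pos hp.pos _) h1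
  rw [hk, hp.factorization_pow, Finsupp.single_eq_same, ← hk] at h2
  refine ⟨h2 ▸ hp, normalizer_eq_top_iff.1 (index_eq_one.1 ?_)⟩
  refine ((Nat.dvd_prime (h2 ▸ hp)).1 (C.idx ▸ index_dvd_of_le
    (le_normalizer : H ≤ normalizer (H : Set G)))).resolve_right fun e => ?_
  exact P.not_dvd_index ((by rw [e, h2] : p ∣ (normalizer (H : Set G)).index).trans
    (index_dvd_of_le hPN))

end Cfsg.Agent.ClassSize.TwoSteps
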