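import Cfsg.Agent.Lib.ClassSize.TwoSteps.Basic

/-! An elementary abelian section acting semiregularly on a coprime group modulo the centre has
prime order. -/

namespace Cfsg.Agent.ClassSize.TwoSteps

open Subgroup
open scoped commutatorElement

variable {G : Type*} [Group G] [Finite G] {p : ℕ}

theorem card_eq_mul_of_semiregular [hp : Fact p.Prime] {P U S : Subgroup G} (hUP : U ≤ P)
    (hPU : P ≤ normalizer (U : Set G)) (hab : ∀ g ∈ P, ∀ h ∈ P, ⁅g, h⁆ ∈ U)
    (hexp : ∀ g ∈ P, g ^ p ∈ U) (hlt : U ≠ P) (hPS : P ≤ normalizer (S : Set G))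
    (hcop : (Nat.card P).Coprime (Nat.card S)) (hUS : U ≤ centralizer (S : Set G))
    (hfix : ∀ g ∈ P, g ∉ U → S ⊓ centralizer ({g} : Set G) ≤ center G) (hS : ¬ S ≤ center G) :
    Nat.card P = Nat.card U * p := by
  classical
  have hn : (U.subgroupOf P).Normal := normal_subgroupOf_of_le_normalizer hPU
  have hcomm : ∀ a b : P ⧸ U.subgroupOf P, a * b = b * a := by
    intro a b
    induction a using QuotientGroup.induction_on with | _ g => ?_
    induction b using QuotientGroup.induction_on with | _ h => ?_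
    refine commutatorElement_eq_one_iff_mul_comm.1 ?_
    show (QuotientGroup.mk' (U.subgroupOf P)) g * _ * _⁻¹ * _⁻¹ = 1
    exact (QuotientGroup.eq_one_iff ⁅g, h⁆).2 (hab g g.2 h h.2)
  letI : CommGroup (P ⧸ U.subgroupOf P) :=
    { (inferInstance : Group (P ⧸ U.subgroupOf P)) with mul_comm := hcomm }
  let f : P →* MulAut S := (S.normalizerMonoidHom).comp (inclusion hPS)
  have hker : U.subgroupOf P ≤ f.ker := fun g hg => by
    refine MonoidHom.mem_ker.2 (MulEquiv.ext fun s => Subtype.ext ?_)
    show (g : G) * s * (g : G)⁻¹ = s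
    have h1 : (s : G) * (g : G) = (g : G) * s := mem_centralizer_iff.1 (hUS hg) s s.2
    rw [← h1, mul_inv_cancel_right]
  let φ : P ⧸ U.subgroupOf P →* MulAut S := QuotientGroup.lift _ f hker
  have hcard : Nat.card P = Nat.card U * Nat.card (P ⧸ U.subgroupOf P) := by
    rw [card_eq_card_quotient_mul_card_subgroup (U.subgroupOf P),
      Nat.card_congr (subgroupOfEquivOfLe hUP).toEquiv, mul_comm]
  rw [hcard]
  congr 1
  by_cases hcyc : IsCyclic (P ⧸ U.subgroupOf P)
  · obtain ⟨a, ha⟩ := hcyc.exists_ofOrder_eq_natCard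
    have h1 : a ^ p = 1 := by
      induction a using QuotientGroup.induction_on with | _ g => ?_
      exact (QuotientGroup.eq_one_iff (g ^ p)).2 (hexp g g.2)
    have h2 : Nat.card (P ⧸ U.subgroupOf P) ∣ p := ha ▸ orderOf_dvd_of_pow_eq_one h1
    refine ((Nat.dvd_prime hp.out).1 h2).resolve_left fun h => hlt ?_
    refine eq_of_le_of_card_ge hUP ?_
    rw [hcard, h, mul_one]
  · exfalso
    refine hS fun s hs => ?_
    have := Coprime.eq_top_of_forall_fixedBy_le φ hcyc
      (hcop.coprime_dvd_left (card_quotient_dvd_card _)) (S := (center G).subgroupOf S)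
      fun a ha k hk => by
        induction a using QuotientGroup.induction_on with | _ g => ?_
        refine hfix g g.2 (fun hg => ha ((QuotientGroup.eq_one_iff g).2 hg))
          ⟨k.2, mem_centralizer_singleton_iff.2 ?_⟩
        have h1 : (g : G) * k * (g : G)⁻¹ = k := congrArg Subtype.val (hk : f g k = k)
        calc (k : G) * g = (g * k * (g : G)⁻¹) * g := by rw [h1]
          _ = g * k := by group
    exact (this.ge (mem_top ⟨s, hs⟩) : _)

end Cfsg.Agent.ClassSize.TwoSteps
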