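import Cfsg.Agent.Lib.ClassSize.TwoSteps.Semiregular
import Cfsg.Agent.Lib.PGroup.Basic

/-! Further tools for class sizes `{1, m, mn}`. -/

namespace Cfsg.Agent.ClassSize.TwoSteps

open Subgroup Cfsg.Agent.ClassSize.CoprimeTop
open scoped commutatorElement

variable {G : Type*} [Group G] [Finite G] {p q m n : ℕ}

theorem cent_mul_center {z : G} (hz : z ∈ center G) (g : G) : cent (z * g) = cent g := by
  ext v
  rw [mem_cent, mem_cent, mul_assoc, ← mul_assoc v z, mem_center_iff.1 hz v, mul_assoc z v]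
  exact ⟨fun h => mul_left_cancel h, fun h => by rw [h]⟩

theorem mem_normalizer_cent {g u : G} (h : ⁅g, u⁆ ∈ center G) :
    g ∈ normalizer ((cent u : Subgroup G) : Set G) := by
  have key : cent (g * u * g⁻¹) = cent u := by
    rw [show g * u * g⁻¹ = ⁅g, u⁆ * u by group, cent_mul_center h]
  refine mem_normalizer_iff.2 fun v => ?_
  conv_rhs => rw [← key, cent_conj_mem]
  simp [mul_assoc]

theorem card_cent_eq {a b : G} (h : cl a = cl b) : Nat.card (cent a) = Nat.card (cent b) := by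
  have h1 := card_mul_index (cent a)
  rw [← card_mul_index (cent b)] at h1
  rw [show (cent b).index = cl b from rfl, ← h, show (cent a).index = cl a from rfl] at h1
  exact Nat.eq_of_mul_eq_mul_right (cl_pos a) h1

theorem pp_center_lt_of_mem [Fact q.Prime] {H : Subgroup G} (hH : center G ≤ H) {x : G}
    (hx : IsPEl q x) (hxH : x ∈ H) (hxZ : x ∉ center G) : pp q (center G) < pp q H := by
  obtain ⟨W, hWZ, hW, hWc⟩ := exists_pp_subgroup q (center G)
  have hWn : W ≤ normalizer (zpowers x : Set G) := fun w hw =>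
    centralizer_le_normalizer _ (mem_centralizer_iff.2 fun y _ => mem_center_iff.1 (hWZ hw) y)
  have hp' : IsPGroup q ↥(W ⊔ zpowers x) :=
    hW.to_sup_of_normal_right' hx.isPGroup_zpowers hWn
  rw [← hWc]
  refine lt_of_lt_of_le ?_ (card_le_pp (sup_le (hWZ.trans hH) (zpowers_le.2 hxH)) hp')
  refine lt_of_le_of_ne (Subgroup.card_le_of_le le_sup_left) fun h => hxZ (hWZ ?_)
  exact (eq_of_le_of_card_ge le_sup_left h.ge).ge (mem_sup_right (mem_zpowers x))

/-- `P ∩ C` is a Sylow subgroup of a subgroup `C` normalised by the Sylow subgroup `P`. -/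
theorem card_inf_of_le_normalizer [Fact p.Prime] (P : Sylow p G) {C : Subgroup G}
    (hP : (P : Subgroup G) ≤ normalizer (C : Set G)) :
    Nat.card ↥((P : Subgroup G) ⊓ C) = pp p C := by
  set N := normalizer (C : Set G)
  have hCn : (C.subgroupOf N).Normal := normal_subgroupOf_of_le_normalizer le_rfl
  have hCN : C ≤ N := le_normalizer
  have h1 := card_inf_normal (P.subtype hP) (C.subgroupOf N)
  rw [Sylow.coe_subtype, ← show ((P : Subgroup G) ⊓ C).subgroupOf N =
      (P : Subgroup G).subgroupOf N ⊓ C.subgroupOf N from comap_inf _ _ _,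
    Nat.card_congr (subgroupOfEquivOfLe (inf_le_right.trans hCN :
      (P : Subgroup G) ⊓ C ≤ N)).toEquiv] at h1
  rw [h1, pp, pp, Nat.card_congr (subgroupOfEquivOfLe hCN).toEquiv]

/-- The `q`-elements of a subgroup in which they are all central form a subgroup. -/
theorem exists_qpart [Fact q.Prime] {E : Subgroup G}
    (h : ∀ s ∈ E, IsPEl q s → s ∈ centralizer (E : Set G)) :
    ∃ S ≤ E, IsPGroup q S ∧ S ≤ centralizer (E : Set G) ∧ Nat.card S = pp q E ∧
      ∀ s ∈ E, IsPEl q s → s ∈ S := by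
  obtain ⟨W, hWE, hW, hWc⟩ := exists_pp_subgroup q E
  refine ⟨W, hWE, hW, fun s hs => h s (hWE hs) (isPEl_of_mem hW hs), hWc, fun s hs hsq => ?_⟩
  have hWn : W ≤ normalizer (zpowers s : Set G) := fun w hw =>
    centralizer_le_normalizer _ (centralizer_le (zpowers_le.2 hs)
      (h w (hWE hw) (isPEl_of_mem hW hw)))
  have hp' : IsPGroup q ↥(W ⊔ zpowers s) :=
    hW.to_sup_of_normal_right' hsq.isPGroup_zpowers hWn
  have heq : W = W ⊔ zpowers s := eq_of_le_of_card_ge le_sup_left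
    (hWc ▸ card_le_pp (sup_le hWE (zpowers_le.2 hs)) hp')
  exact heq.ge (mem_sup_right (mem_zpowers s))

/-- An element of order `p` in the centre of `P` modulo the centre of `G`. -/
theorem exists_central_mod (S : Hyp G m n) [hp : Fact p.Prime] (hpm : p ∣ m) (P : Sylow p G) :
    ∃ u ∈ (P : Subgroup G), u ∉ center G ∧ u ^ p ∈ center G ∧
      ∀ g ∈ (P : Subgroup G), ⁅g, u⁆ ∈ center G := by
  set f := QuotientGroup.mk' (center G)
  set Pb := (P : Subgroup G).map f
  obtain ⟨e, he, heZ⟩ := S.exists_noncentral_pEl hpm P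
  have : Nontrivial Pb := (nontrivial_iff_ne_bot _).2 fun h => heZ
    ((QuotientGroup.eq_one_iff e).1 (mem_bot.1 (h ▸ mem_map_of_mem f he)))
  have hPb : IsPGroup p Pb := P.isPGroup'.map f
  have := hPb.center_nontrivial
  obtain ⟨k, hk0, hk⟩ : ∃ k, 0 < k ∧ Nat.card (center Pb) = p ^ k := by
    obtain ⟨k, hk⟩ := IsPGroup.iff_card.1 (hPb.to_subgroup (center Pb))
    refine ⟨k, Nat.pos_of_ne_zero fun h => ?_, hk⟩
    rw [h, pow_zero] at hk
    exact absurd hk (ne_of_gt Finite.one_lt_card)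
  obtain ⟨c, hc⟩ := exists_prime_orderOf_dvd_card' (G := center Pb) p
    (hk ▸ dvd_pow_self p hk0.ne')
  obtain ⟨u, hu, huc⟩ := (c : Pb).2
  refine ⟨u, hu, fun h => ?_, ?_, fun g hg => ?_⟩
  · have : c = 1 := Subtype.ext (Subtype.ext (huc.symm.trans ((QuotientGroup.eq_one_iff u).2 h)))
    rw [this, orderOf_one] at hc
    exact hp.out.ne_one hc.symm
  · refine (QuotientGroup.eq_one_iff _).1 (?_ : f (u ^ p) = 1)
    rw [map_pow, huc]
    have := hc ▸ pow_orderOf_eq_one c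
    simpa using congrArg (fun z : center Pb => ((z : Pb) : G ⧸ center G)) this
  · refine (QuotientGroup.eq_one_iff _).1 (?_ : f ⁅g, u⁆ = 1)
    rw [map_commutatorElement, huc, commutatorElement_eq_one_iff_mul_comm]
    exact congrArg Subtype.val (mem_center_iff.1 c.2 ⟨f g, mem_map_of_mem f hg⟩)

omit [Finite G] in
/-- A commutator in the centre is killed by every exponent killing `u` modulo the centre. -/
theorem pow_commutator_eq_one {g u : G} (hz : ⁅g, u⁆ ∈ center G) {k : ℕ}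
    (hk : u ^ k ∈ center G) : ⁅g, u⁆ ^ k = 1 := by
  have h1 : g * u ^ k * g⁻¹ = ⁅g, u⁆ ^ k * u ^ k := by
    rw [← conj_pow, show g * u * g⁻¹ = ⁅g, u⁆ * u by group,
      (show Commute ⁅g, u⁆ u from (mem_center_iff.1 hz u).symm).mul_pow]
  rw [mem_center_iff.1 hk g, mul_inv_cancel_right] at h1
  exact mul_eq_right.1 h1.symm

omit [Finite G] in
theorem conj_mul_eq {g h u z w : G} (hw : w ∈ center G) (hg : g * u * g⁻¹ = z * u)
    (hh : h * u * h⁻¹ = w * u) : g * h * u * (g * h)⁻¹ = w * z * u :=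
  calc g * h * u * (g * h)⁻¹ = g * (h * u * h⁻¹) * g⁻¹ := by group
    _ = g * w * u * g⁻¹ := by rw [hh, mul_assoc g w u]
    _ = w * (g * u * g⁻¹) := by rw [mem_center_iff.1 hw g]; simp [mul_assoc]
    _ = _ := by rw [hg, mul_assoc]

omit [Finite G] in
theorem conj_inv_eq {g u z : G} (hz : z ∈ center G) (hg : g * u * g⁻¹ = z * u) :
    g⁻¹ * u * g⁻¹⁻¹ = z⁻¹ * u :=
  calc g⁻¹ * u * g⁻¹⁻¹ = z⁻¹ * (z * g⁻¹) * u * g := by group
    _ = z⁻¹ * (g⁻¹ * z) * u * g := by rw [mem_center_iff.1 hz g⁻¹]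
    _ = z⁻¹ * (g⁻¹ * (z * u) * g) := by group
    _ = _ := by rw [← hg]; group

omit [Finite G] in
theorem conj_pow_eq {g u z : G} (hz : z ∈ center G) (h : g * u * g⁻¹ = z * u) :
    ∀ k : ℕ, g ^ k * u * (g ^ k)⁻¹ = z ^ k * u
  | 0 => by simp
  | k + 1 => by
    rw [pow_succ g, conj_mul_eq hz (conj_pow_eq hz h k) h, pow_succ' z]

/-- The commutators and `p`-th powers of `P` centralise `u`. -/
theorem mem_cent_of_central_mod {g h u : G} (hg : ⁅g, u⁆ ∈ center G) (hh : ⁅h, u⁆ ∈ center G) :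
    ⁅g, h⁆ ∈ cent u := by
  refine mem_cent.2 ?_
  have e1 : g * u * g⁻¹ = ⁅g, u⁆ * u := by group
  have e2 : h * u * h⁻¹ = ⁅h, u⁆ * u := by group
  have h5 := conj_mul_eq (inv_mem hh) (conj_mul_eq (inv_mem hg) (conj_mul_eq hh e1 e2)
    (conj_inv_eq hg e1)) (conj_inv_eq hh e2)
  rw [show (⁅h, u⁆⁻¹ : G) * (⁅g, u⁆⁻¹ * (⁅h, u⁆ * ⁅g, u⁆)) = 1 by
    rw [mem_center_iff.1 hg ⁅h, u⁆, ← mul_assoc ⁅g, u⁆⁻¹, inv_mul_cancel, one_mul, inv_mul_cancel],
    one_mul, mul_inv_eq_iff_eq_mul] at h5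
  rw [commutatorElement_def g h]
  exact h5.symm

theorem pow_mem_cent_of_central_mod {g u : G} (hg : ⁅g, u⁆ ∈ center G)
    (hu : u ^ p ∈ center G) : g ^ p ∈ cent u := by
  refine mem_cent.2 ?_
  have h1 := conj_pow_eq hg (show g * u * g⁻¹ = ⁅g, u⁆ * u by group) p
  rw [pow_commutator_eq_one hg hu, one_mul, mul_inv_eq_iff_eq_mul] at h1
  exact h1.symm

end Cfsg.Agent.ClassSize.TwoSteps
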